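import Cfsg.Prelude.Def_Local
import Cfsg.Prelude.Def_LocalEven
import Cfsg.Agent.Lib.ThompsonPQ
import Cfsg.Agent.Lib.CoprimeHyperplane
import Cfsg.Agent.Lib.Cores
import Cfsg.Agent.H440.MinimalAction

/-!
# Groups of characteristic 2-type and of local characteristic `p`: basic lemmas (helper810)

`LC q G`: every `q`-local subgroup `N` of `G` satisfies `C_N(O_q(N)) ≤ O_q(N)`.
`bound`: if `D` is an elementary abelian `p`-group of rank `k` and `E ≤ C(D)` an elementary abelian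
`2`-group of rank `r + 1`, some nontrivial `2`-subgroup is normalised by an elementary abelian `p`-group of
rank `k + r`.
-/

set_option autoImplicit false

namespace Cfsg.Agent.H810.KM

open Subgroup
open Cfsg.Agent.SignalizersComponents.GoldschmidtGen (le_normalizer_of_conj_mem
  conj_mem_of_le_normalizer)

variable {G : Type*} [Group G]

/-! ### generalities -/

theorem elab_comm {q : ℕ} {A : Subgroup G} (hA : Cfsg.IsElementaryAbelian q A) {a b : G}
    (ha : a ∈ A) (hb : b ∈ A) : a * b = b * a :=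
  congrArg Subtype.val (hA.1.is_comm.comm ⟨a, ha⟩ ⟨b, hb⟩)

theorem elab_of {q : ℕ} {A : Subgroup G} (h1 : ∀ a ∈ A, ∀ b ∈ A, a * b = b * a)
    (h2 : ∀ a ∈ A, a ^ q = 1) : Cfsg.IsElementaryAbelian q A :=
  ⟨⟨⟨fun a b => Subtype.ext (h1 a a.2 b b.2)⟩⟩, h2⟩

theorem elab_le {q : ℕ} {A B : Subgroup G} (hA : Cfsg.IsElementaryAbelian q A) (h : B ≤ A) :
    Cfsg.IsElementaryAbelian q B :=
  elab_of (fun _ ha _ hb => elab_comm hA (h ha) (h hb)) (fun a ha => hA.2 a (h ha))

theorem elab_pgroup {q : ℕ} {A : Subgroup G} (hA : Cfsg.IsElementaryAbelian q A) : IsPGroup q A :=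
  fun a => ⟨1, by rw [pow_one]; exact Subtype.ext (hA.2 a a.2)⟩

theorem mem_sup_comm {A B : Subgroup G} (hc : ∀ a ∈ A, ∀ b ∈ B, a * b = b * a) {x : G}
    (hx : x ∈ A ⊔ B) : ∃ a ∈ A, ∃ b ∈ B, x = a * b := by
  let K : Subgroup G :=
    { carrier := {x | ∃ a ∈ A, ∃ b ∈ B, x = a * b}
      one_mem' := ⟨1, one_mem A, 1, one_mem B, (one_mul 1).symm⟩
      mul_mem' := by
        rintro _ _ ⟨a, ha, b, hb, rfl⟩ ⟨c, hc', d, hd, rfl⟩
        refine ⟨a * c, mul_mem ha hc', b * d, mul_mem hb hd, ?_⟩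
        rw [mul_assoc a b, ← mul_assoc b c, ← hc c hc' b hb]
        simp only [mul_assoc]
      inv_mem' := by
        rintro _ ⟨a, ha, b, hb, rfl⟩
        refine ⟨a⁻¹, inv_mem ha, b⁻¹, inv_mem hb, ?_⟩
        rw [hc a⁻¹ (inv_mem ha) b⁻¹ (inv_mem hb), mul_inv_rev] }
  have hA : A ≤ K := fun a ha => ⟨a, ha, 1, one_mem B, (mul_one a).symm⟩
  have hB : B ≤ K := fun b hb => ⟨1, one_mem A, b, hb, (one_mul b).symm⟩
  exact (sup_le hA hB) hx

theorem elab_sup {q : ℕ} {A B : Subgroup G} (hA : Cfsg.IsElementaryAbelian q A)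
    (hB : Cfsg.IsElementaryAbelian q B) (hc : ∀ a ∈ A, ∀ b ∈ B, a * b = b * a) :
    Cfsg.IsElementaryAbelian q (A ⊔ B) := by
  refine elab_of ?_ ?_
  · intro x hx y hy
    obtain ⟨a, ha, b, hb, rfl⟩ := mem_sup_comm hc hx
    obtain ⟨c, hc', d, hd, rfl⟩ := mem_sup_comm hc hy
    have h1 : Commute a c := elab_comm hA ha hc'
    have h2 : Commute b d := elab_comm hB hb hd
    have h3 : Commute a d := hc a ha d hd
    have h4 : Commute b c := (hc c hc' b hb).symm
    exact ((h1.mul_right h3).mul_left (h4.mul_right h2)).eq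
  · intro x hx
    obtain ⟨a, ha, b, hb, rfl⟩ := mem_sup_comm hc hx
    rw [(show Commute a b from hc a ha b hb).mul_pow, hA.2 a ha, hB.2 b hb, one_mul]

/-- the product of two commuting subgroups with trivial intersection -/
theorem card_sup_comm {A B : Subgroup G} (h : ∀ a ∈ A, ∀ b ∈ B, a * b = b * a) (hd : A ⊓ B = ⊥) :
    Nat.card ↥(A ⊔ B) = Nat.card ↥A * Nat.card ↥B := by
  have hc : ∀ (a : ↥A) (b : ↥B), Commute (A.subtype a) (B.subtype b) := fun a b => h a a.2 b b.2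
  have hinj : Function.Injective (A.subtype.noncommCoprod B.subtype hc) := by
    rw [injective_iff_map_eq_one]
    rintro ⟨a, b⟩ hab
    rw [MonoidHom.noncommCoprod_apply] at hab
    have h1 : (a : G) * (b : G) = 1 := hab
    have h2 : (a : G) = (b : G)⁻¹ := eq_inv_of_mul_eq_one_left h1
    have h5 : (a : G) ∈ B := by rw [h2]; exact B.inv_mem b.2
    have h3 : (a : G) ∈ A ⊓ B := ⟨a.2, h5⟩
    rw [hd, mem_bot] at h3
    have h4 : (b : G) = 1 := by rwa [h3, one_mul] at h1
    exact Prod.ext (Subtype.ext h3) (Subtype.ext h4)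
  have h1 : A ⊔ B = (A.subtype.noncommCoprod B.subtype hc).range := by
    rw [MonoidHom.noncommCoprod_range, range_subtype, range_subtype]
  rw [h1, ← Nat.card_congr (MonoidHom.ofInjective hinj).toEquiv, Nat.card_prod]

theorem elab_zpowers {q : ℕ} {x : G} (hx : x ^ q = 1) :
    Cfsg.IsElementaryAbelian q (zpowers x) := by
  refine elab_of ?_ ?_
  · rintro _ ⟨m, rfl⟩ _ ⟨n, rfl⟩
    exact (Commute.zpow_zpow_self x m n).eq
  · rintro _ ⟨m, rfl⟩
    show (x ^ m) ^ q = 1
    rw [← zpow_natCast, ← zpow_mul, mul_comm, zpow_mul, zpow_natCast, hx, one_zpow]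

theorem zpowers_inf_eq_bot {q : ℕ} [hq : Fact q.Prime] {x : G} (hx : orderOf x = q) {A : Subgroup G}
    (hA : x ∉ A) : A ⊓ zpowers x = ⊥ := by
  have hc : Nat.card (zpowers x) = q := by rw [Nat.card_zpowers, hx]
  have : Finite (zpowers x) := Nat.finite_of_card_ne_zero (by rw [hc]; exact hq.out.ne_zero)
  have h1 : Nat.card (A ⊓ zpowers x : Subgroup G) ∣ q := hc ▸ card_dvd_of_le inf_le_right
  rcases (Nat.dvd_prime hq.out).1 h1 with h2 | h2
  · exact card_eq_one.1 h2
  · exfalso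
    apply hA
    have h3 : A ⊓ zpowers x = zpowers x := eq_of_le_of_card_ge inf_le_right (by rw [h2, hc])
    have h4 : x ∈ A ⊓ zpowers x := by rw [h3]; exact mem_zpowers x
    exact h4.1

/-- adjoining an element of order `q` -/
theorem elab_adjoin {q : ℕ} [hq : Fact q.Prime] {A : Subgroup G} (hA : Cfsg.IsElementaryAbelian q A)
    {x : G} (hx : orderOf x = q) (hxA : x ∉ A) (hc : ∀ a ∈ A, a * x = x * a) :
    Cfsg.IsElementaryAbelian q (A ⊔ zpowers x) ∧
      Nat.card (A ⊔ zpowers x : Subgroup G) = Nat.card A * q := by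
  have hc' : ∀ a ∈ A, ∀ b ∈ zpowers x, a * b = b * a := by
    rintro a ha _ ⟨n, rfl⟩
    exact ((show Commute a x from hc a ha).zpow_right n).eq
  refine ⟨elab_sup hA (elab_zpowers (by rw [← hx, pow_orderOf_eq_one])) hc', ?_⟩
  rw [card_sup_comm hc' (zpowers_inf_eq_bot hx hxA), Nat.card_zpowers, hx]

/-! ### local characteristic -/

/-- `C_N(O_q(N)) ≤ O_q(N)` for all `q`-local subgroups `N` -/
def LC (q : ℕ) (G : Type*) [Group G] : Prop :=
  ∀ T : Subgroup G, IsPGroup q T → T ≠ ⊥ →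
    centralizer (Cfsg.pCore q ↥(normalizer (T : Set G)) : Set ↥(normalizer (T : Set G))) ≤
      Cfsg.pCore q ↥(normalizer (T : Set G))

/-- `R = O_q(N_G(T))` -/
structure Core (q : ℕ) (T R : Subgroup G) : Prop where
  pgroup : IsPGroup q R
  norm : normalizer (T : Set G) ≤ normalizer (R : Set G)
  core : ∀ x ∈ normalizer (T : Set G), (∀ r ∈ R, r * x = x * r) → x ∈ R

theorem LC.exists_core {q : ℕ} (h : LC q G) {T : Subgroup G} (hT : IsPGroup q T) (hT1 : T ≠ ⊥) :
    ∃ R : Subgroup G, Core q T R := by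
  refine ⟨(Cfsg.pCore q ↥(normalizer (T : Set G))).map (normalizer (T : Set G)).subtype,
    (Lib.Cores.pCore_isPGroup q).map _, ?_, ?_⟩
  · apply le_normalizer_of_conj_mem
    rintro a ha _ ⟨x, hx, rfl⟩
    exact ⟨⟨a, ha⟩ * x * ⟨a, ha⟩⁻¹, Normal.conj_mem inferInstance x hx _, rfl⟩
  · intro x hx hc
    refine ⟨⟨x, hx⟩, h T hT hT1 (mem_centralizer_iff.2 fun r hr => Subtype.ext ?_), rfl⟩
    exact hc r ⟨r, hr, rfl⟩

/-- a `q'`-group `E` centralising the `q`-group `D ≠ 1` acts faithfully on `C_R(D)`, `R = O_q(N(D))`. -/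
theorem Core.faithful [Finite G] {q : ℕ} [hq : Fact q.Prime] {D R E : Subgroup G} (h : Core q D R)
    (hD : IsPGroup q D) (hE : (Nat.card E).Coprime q) (hED : E ≤ centralizer (D : Set G))
    (hc : R ⊓ centralizer (D : Set G) ≤ centralizer (E : Set G)) : E = ⊥ := by
  have hEN : E ≤ normalizer (D : Set G) := hED.trans (centralizer_le_normalizer _)
  have h1 : E ≤ centralizer (R : Set G) :=
    Lib.ThompsonPQ.thompson_p_times_q q D E R hD hE h.pgroup (le_centralizer_iff.1 hED)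
      (le_normalizer.trans h.norm) (hEN.trans h.norm) hc
  have h2 : E ≤ R := fun x hx => h.core x (hEN hx) (mem_centralizer_iff.1 (h1 hx))
  have h3 : IsPGroup q E := h.pgroup.to_le h2
  obtain ⟨n, hn⟩ := IsPGroup.iff_card.1 h3
  rcases Nat.eq_zero_or_pos n with h0 | h0
  · exact card_eq_one.1 (by rw [hn, h0, pow_zero])
  · exfalso
    rw [hn] at hE
    exact hq.out.one_lt.ne' (Nat.eq_one_of_dvd_coprimes hE (dvd_pow_self q h0.ne') dvd_rfl)

/-- an involution acting non-trivially on a `q`-group (`q` odd) inverts an element of order `q` -/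
theorem exists_inverted [Finite G] {q : ℕ} [hq : Fact q.Prime] (_hq2 : q ≠ 2) {Y : Subgroup G}
    (hY : IsPGroup q Y) {t : G} (ht : t * t = 1) (hn : ∀ y ∈ Y, t * y * t⁻¹ ∈ Y)
    (hne : ∃ y ∈ Y, t * y ≠ y * t) : ∃ x ∈ Y, orderOf x = q ∧ t * x * t⁻¹ = x⁻¹ := by
  obtain ⟨y, hy, hyt⟩ := hne
  have hti : t⁻¹ = t := inv_eq_of_mul_eq_one_left ht
  set c : G := y⁻¹ * (t * y * t⁻¹) with hc
  have hcY : c ∈ Y := mul_mem (inv_mem hy) (hn y hy)
  have hc1 : c ≠ 1 := by
    intro h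
    apply hyt
    have h1 : t * y * t⁻¹ = y := by
      have := inv_mul_eq_one.1 h
      exact this.symm
    rw [mul_inv_eq_iff_eq_mul] at h1
    exact h1
  have hct : t * c * t⁻¹ = c⁻¹ := by
    have h1 : c⁻¹ = t * y⁻¹ * t * y := by
      rw [hc, hti, mul_inv_rev, mul_inv_rev, mul_inv_rev, inv_inv, hti]
      simp only [mul_assoc]
    rw [h1, hc, hti]
    simp only [mul_assoc]
    rw [ht, mul_one]
  have hctn : ∀ n : ℕ, t * c ^ n * t⁻¹ = (c ^ n)⁻¹ := by
    intro n
    rw [← conj_pow, hct, inv_pow]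
  obtain ⟨n, hn'⟩ := (IsPGroup.iff_orderOf.1 hY) ⟨c, hcY⟩
  have ho : orderOf c = q ^ n := by rw [← hn', Subgroup.orderOf_mk]
  have hn0 : n ≠ 0 := by
    rintro rfl
    rw [pow_zero] at ho
    exact hc1 (orderOf_eq_one_iff.1 ho)
  obtain ⟨m, rfl⟩ := Nat.exists_eq_succ_of_ne_zero hn0
  refine ⟨c ^ q ^ m, pow_mem hcY _, ?_, hctn _⟩
  rw [orderOf_pow, ho, Nat.gcd_eq_right (pow_dvd_pow q (Nat.le_succ m)), Nat.succ_eq_add_one,
    pow_succ, Nat.mul_div_cancel_left _ (pow_pos hq.out.pos m)]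

/-! ### the rank bound -/

/-- some elementary abelian `p`-group of order `p ^ k` normalises a nontrivial `2`-group -/
def Pk (p k : ℕ) (G : Type*) [Group G] : Prop :=
  ∃ A T : Subgroup G, Cfsg.IsElementaryAbelian p A ∧ Nat.card A = p ^ k ∧ IsPGroup 2 T ∧ T ≠ ⊥ ∧
    A ≤ normalizer (T : Set G)

theorem relIndex_mul_card' {H K : Subgroup G} (h : H ≤ K) :
    H.relIndex K * Nat.card ↥H = Nat.card ↥K := by
  have h1 := (H.subgroupOf K).index_mul_card
  have h2 : Nat.card ↥(H.subgroupOf K) = Nat.card ↥H := Nat.card_congr (subgroupOfEquivOfLe h).toEquiv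
  rw [h2] at h1
  exact h1

theorem exists_noncomm_hyperplane [Finite G] {s : ℕ} [hs : Fact s.Prime] {E Q : Subgroup G}
    (hE : Cfsg.IsElementaryAbelian s E) (hE1 : E ≠ ⊥) (hQ : ¬ s ∣ Nat.card Q)
    (hEQ : E ≤ normalizer (Q : Set G)) {C : Subgroup G} (h : ¬ Q ≤ C) :
    ∃ B : Subgroup G, B ≤ E ∧ B.relIndex E = s ∧ ¬ Q ⊓ centralizer (B : Set G) ≤ C := by
  by_contra hcon
  push Not at hcon
  apply h
  rw [← Lib.CoprimeHyperplane.iSup_centralizer_hyperplane hE hE1 hQ hEQ]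
  exact iSup_le fun B => hcon B.1 B.2.1 B.2.2

theorem le_normalizer_inf {A H K : Subgroup G} (hH : A ≤ normalizer (H : Set G))
    (hK : A ≤ normalizer (K : Set G)) : A ≤ normalizer ((H ⊓ K : Subgroup G) : Set G) :=
  le_normalizer_of_conj_mem fun _ ha _ hx =>
    ⟨conj_mem_of_le_normalizer hH ha hx.1, conj_mem_of_le_normalizer hK ha hx.2⟩

/-- what normalises `H` normalises `C(H)` -/
theorem le_normalizer_centralizer {A H : Subgroup G} (hH : A ≤ normalizer (H : Set G)) :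
    A ≤ normalizer ((centralizer (H : Set G) : Subgroup G) : Set G) := by
  apply le_normalizer_of_conj_mem
  intro a ha x hx
  rw [mem_centralizer_iff] at hx ⊢
  intro h hh
  have h1 := hx _ (conj_mem_of_le_normalizer hH (inv_mem ha) hh)
  calc h * (a * x * a⁻¹) = a * ((a⁻¹ * h * a⁻¹⁻¹) * x) * a⁻¹ := by group
    _ = a * (x * (a⁻¹ * h * a⁻¹⁻¹)) * a⁻¹ := by rw [h1]
    _ = a * x * a⁻¹ * h := by group

theorem not_dvd_card_of_isPGroup [Finite G] {s q : ℕ} [Fact s.Prime] [Fact q.Prime] (hsq : s ≠ q)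
    {Q : Subgroup G} (hQ : IsPGroup q Q) : ¬ s ∣ Nat.card Q := by
  obtain ⟨n, hn⟩ := IsPGroup.iff_card.1 hQ
  rw [hn]
  intro h
  exact hsq ((Nat.prime_dvd_prime_iff_eq Fact.out Fact.out).1 ((Fact.out : s.Prime).dvd_of_dvd_pow h))

theorem coprime_card_of_isPGroup [Finite G] {s q : ℕ} [Fact s.Prime] [Fact q.Prime] (hsq : s ≠ q)
    {Q : Subgroup G} (hQ : IsPGroup q Q) : (Nat.card Q).Coprime s :=
  ((Nat.Prime.coprime_iff_not_dvd Fact.out).2 (not_dvd_card_of_isPGroup hsq hQ)).symm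

theorem bound [Finite G] {p : ℕ} [hp : Fact p.Prime] (hp2 : p ≠ 2) (hL : LC p G) :
    ∀ (r k : ℕ) (D E : Subgroup G), Cfsg.IsElementaryAbelian p D → Nat.card D = p ^ k → 1 ≤ k →
      Cfsg.IsElementaryAbelian 2 E → Nat.card E = 2 ^ (r + 1) → E ≤ centralizer (D : Set G) →
      Pk p (k + r) G := by
  intro r
  induction r with
  | zero =>
    intro k D E hD hDc hk hE hEc hED
    refine ⟨D, E, hD, hDc, elab_pgroup hE, ?_, ?_⟩
    · rintro rfl
      rw [card_bot] at hEc
      norm_num at hEc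
    · exact (le_centralizer_iff.1 hED).trans (centralizer_le_normalizer _)
  | succ r ih =>
    intro k D E hD hDc hk hE hEc hED
    have h2 : Fact (Nat.Prime 2) := ⟨Nat.prime_two⟩
    have hDp : IsPGroup p D := elab_pgroup hD
    have hD1 : D ≠ ⊥ := by
      rintro rfl
      rw [card_bot] at hDc
      exact (Nat.one_lt_pow (by omega) hp.out.one_lt).ne hDc
    have hE1 : E ≠ ⊥ := by
      rintro rfl
      rw [card_bot] at hEc
      exact (Nat.one_lt_pow (by omega) (by norm_num)).ne hEc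
    obtain ⟨R, hR⟩ := hL.exists_core hDp hD1
    have hEN : E ≤ normalizer (D : Set G) := hED.trans (centralizer_le_normalizer _)
    have hECc : (Nat.card E).Coprime p := coprime_card_of_isPGroup (s := p) hp2 (elab_pgroup hE)
    have hnot : ¬ R ⊓ centralizer (D : Set G) ≤ centralizer (E : Set G) := fun hc =>
      hE1 (hR.faithful hDp hECc hED hc)
    have hR1 : IsPGroup p ↥(R ⊓ centralizer (D : Set G)) := hR.pgroup.to_le inf_le_left
    have hER : E ≤ normalizer ((R ⊓ centralizer (D : Set G) : Subgroup G) : Set G) :=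
      le_normalizer_inf (hEN.trans hR.norm) (le_normalizer_centralizer hEN)
    obtain ⟨B, hBE, hBi, hB⟩ := exists_noncomm_hyperplane hE hE1
      (not_dvd_card_of_isPGroup (s := 2) (Ne.symm hp2) hR1) hER hnot
    obtain ⟨y, hy, hyE⟩ := SetLike.not_le_iff_exists.1 hB
    rw [mem_centralizer_iff] at hyE
    push Not at hyE
    obtain ⟨t, ht, hty⟩ := hyE
    have htt : t * t = 1 := by rw [← pow_two]; exact hE.2 t ht
    obtain ⟨x, hxY, hxo, hxt⟩ := exists_inverted hp2 (hR1.to_le inf_le_left) htt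
      (Y := R ⊓ centralizer (D : Set G) ⊓ centralizer (B : Set G))
      (fun y hy => by
        refine ⟨conj_mem_of_le_normalizer hER ht hy.1, ?_⟩
        refine conj_mem_of_le_normalizer (A := E) (le_normalizer_centralizer ?_) ht hy.2
        exact le_normalizer_of_conj_mem fun a ha b hb => by
          rw [elab_comm hE ha (hBE hb), mul_inv_cancel_right]; exact hb)
      ⟨y, hy, hty⟩
    have hxD : x ∉ D := by
      intro hx
      have h3 : x * t = t * x := mem_centralizer_iff.1 (hED ht) x hx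
      rw [← h3, mul_inv_cancel_right] at hxt
      have h4 : x ^ 2 = 1 := by rw [pow_two]; nth_rewrite 2 [hxt]; exact mul_inv_cancel x
      have h5 := orderOf_dvd_of_pow_eq_one h4
      rw [hxo] at h5
      exact hp2 ((Nat.prime_dvd_prime_iff_eq hp.out Nat.prime_two).1 h5)
    obtain ⟨hD', hD'c⟩ := elab_adjoin hD hxo hxD (mem_centralizer_iff.1 hxY.1.2)
    have hBc : Nat.card B = 2 ^ (r + 1) := by
      have h6 := relIndex_mul_card' hBE
      rw [hBi, hEc, pow_succ (n := r + 1), mul_comm] at h6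
      exact Nat.eq_of_mul_eq_mul_right (by norm_num) h6
    have := ih (k + 1) (D ⊔ zpowers x) B hD' (by rw [hD'c, hDc, pow_succ]) (by omega)
      (elab_le hE hBE) hBc ?_
    · rwa [show k + (r + 1) = k + 1 + r by ring]
    · rw [le_centralizer_iff]
      refine sup_le (le_centralizer_iff.1 (hBE.trans hED)) ?_
      rw [zpowers_le]
      exact hxY.2

end Cfsg.Agent.H810.KM
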