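import Cfsg.Agent.H810.KMPairs
import Cfsg.Agent.H442.ExtraRank
import Cfsg.Agent.J3.Fix
import Cfsg.Agent.Lib.ProductSet

/-!
# Groups of characteristic 2-type and of local characteristic `p`: pairs of extraspecial groups (helper810)
-/

set_option autoImplicit false

namespace Cfsg.Agent.H810.KM

open Subgroup
open scoped commutatorElement
open Cfsg.Agent.SignalizersComponents.GoldschmidtGen (le_normalizer_of_conj_mem
  conj_mem_of_le_normalizer)
open Cfsg.Agent.Transfer.ExtraspecialTwo (CentralTwo)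

variable {G : Type*} [Group G]

/-- an extraspecial 2-group with centre `⟨z⟩ ≤ C(A)` -/
structure Ex (A T : Subgroup G) (z : G) : Prop where
  zT : z ∈ T
  z1 : z ≠ 1
  zz : z * z = 1
  zA : ∀ a ∈ A, a * z = z * a
  zc : ∀ x ∈ T, z * x = x * z
  cen : ∀ x ∈ T, (∀ y ∈ T, y * x = x * y) → x = 1 ∨ x = z
  comm : ∀ x ∈ T, ∀ y ∈ T, ⁅x, y⁆ = 1 ∨ ⁅x, y⁆ = z
  sq : ∀ x ∈ T, x * x = 1 ∨ x * x = z
  card : ∃ n, 1 ≤ n ∧ Nat.card T = 2 ^ (2 * n + 1)

theorem Ex.order {A T : Subgroup G} {z : G} (h : Ex A T z) : orderOf z = 2 :=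
  orderOf_eq_prime (by rw [pow_two]; exact h.zz) h.z1

theorem Ex.mem_zpowers {A T : Subgroup G} {z : G} (h : Ex A T z) {x : G} :
    x ∈ zpowers z ↔ x = 1 ∨ x = z := by
  constructor
  · rintro ⟨n, rfl⟩
    rcases Int.even_or_odd' n with ⟨k, rfl | rfl⟩
    · left
      show z ^ (2 * k) = 1
      rw [zpow_mul, zpow_two, h.zz, one_zpow]
    · right
      show z ^ (2 * k + 1) = z
      rw [zpow_add, zpow_mul, zpow_two, h.zz, one_zpow, one_mul, zpow_one]
  · rintro (rfl | rfl)
    · exact one_mem _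
    · exact Subgroup.mem_zpowers _

theorem exists_ex [Finite G] {p m : ℕ} [hp : Fact p.Prime] (H : Hyp p m G) {A T : Subgroup G}
    (hA : Cfsg.IsElementaryAbelian p A) (hAc : Nat.card A = p ^ m) (hT : Mn A T) :
    ∃ z, Ex A T z := by
  obtain ⟨he, hZ⟩ := H.extra hA hAc hT
  have hc : CentralTwo T := ⟨Transfer.Extraspecial.comm_mem_center he, he.2⟩
  obtain ⟨z, hz1, huniv⟩ := (Nat.card_eq_two_iff' (1 : center T)).mp hc.card_center
  have hz1' : (z : T) ≠ 1 := fun h => hz1 (Subtype.ext h)
  have hu : ∀ x ∈ center T, x = 1 ∨ x = z := by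
    intro x hx
    by_cases hx1 : x = 1
    · exact Or.inl hx1
    · exact Or.inr (hc.eq_of_ne_one hx z.2 hx1 hz1')
  have lift : ∀ {x : T}, x = 1 ∨ x = z → (x : G) = 1 ∨ (x : G) = ((z : T) : G) := by
    rintro x (rfl | rfl)
    · exact Or.inl rfl
    · exact Or.inr rfl
  refine ⟨((z : T) : G), (z : T).2, fun h => hz1' (Subtype.ext h), ?_, ?_, ?_, ?_, ?_, ?_, ?_⟩
  · have := hc.sq_eq_one z.2
    rw [pow_two] at this
    exact congrArg Subtype.val this
  · intro a ha
    exact mem_centralizer_iff.1 (hZ ⟨(z : T), z.2, rfl⟩) a ha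
  · intro x hx
    exact congrArg Subtype.val (mem_center_iff.1 z.2 ⟨x, hx⟩).symm
  · intro x hx hc'
    refine lift (x := ⟨x, hx⟩) (hu _ (mem_center_iff.2 ?_))
    intro y
    exact Subtype.ext (hc' y y.2)
  · intro x hx y hy
    exact lift (x := ⁅⟨x, hx⟩, ⟨y, hy⟩⁆) (hu _ (hc.comm_mem _ _))
  · intro x hx
    have h1 := hc.sq_mem ⟨x, hx⟩
    rw [pow_two] at h1
    exact lift (x := ⟨x, hx⟩ * ⟨x, hx⟩) (hu _ h1)
  · exact Transfer.Extraspecial.exists_card_eq Nat.prime_two he

theorem norm_of_gen [Finite G] {A B T U : Subgroup G} {a : G} (hTB : T ≤ centralizer (B : Set G))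
    (hAB : A ≤ B ⊔ zpowers a) (hU : U ≤ T) (ha : ∀ u ∈ U, a * u * a⁻¹ ∈ U) :
    A ≤ normalizer (U : Set G) := by
  refine hAB.trans (sup_le ?_ ?_)
  · exact (le_centralizer_iff.1 (hU.trans hTB)).trans (centralizer_le_normalizer _)
  · rw [zpowers_le]
    exact mem_normalizer_fintype ha

theorem le_sup_zpowers {p : ℕ} [hp : Fact p.Prime] {A B : Subgroup G} (hBA : B ≤ A)
    (hBi : B.relIndex A = p) {a : G} (ha : a ∈ A) (haB : a ∉ B) : A ≤ B ⊔ zpowers a := by
  have h4 : B ⊔ zpowers a ≤ A := sup_le hBA (by rwa [zpowers_le])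
  have h5 : B < B ⊔ zpowers a := by
    refine lt_of_le_of_ne le_sup_left fun h6 => haB ?_
    rw [h6]
    exact mem_sup_right (Subgroup.mem_zpowers a)
  have h6 := relIndex_mul_relIndex B (B ⊔ zpowers a) A le_sup_left h4
  rw [hBi] at h6
  rcases (Nat.dvd_prime hp.out).1 (Dvd.intro_left _ h6) with h8 | h8
  · exact relIndex_eq_one.1 h8
  · exfalso
    rw [h8] at h6
    have h9 : B.relIndex (B ⊔ zpowers a) = 1 :=
      Nat.eq_of_mul_eq_mul_right hp.out.pos (by rw [h6, one_mul])
    exact h5.not_ge (relIndex_eq_one.1 h9)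

/-- for `p = 3` the group `T` is the quaternion group -/
theorem quat [Finite G] {A B T : Subgroup G} {z a : G} (hT : Mn A T) (hE : Ex A T z)
    (hTB : T ≤ centralizer (B : Set G)) (hAB : A ≤ B ⊔ zpowers a) (haA : a ∈ A) (ha3 : a ^ 3 = 1)
    (hco : (Nat.card A).Coprime 2) :
    ∃ x ∈ T, ∃ c, (c = 1 ∨ c = z) ∧ x * (a * x * a⁻¹) * (a * (a * x * a⁻¹) * a⁻¹) = c ∧
      ⁅x, a * x * a⁻¹⁆ = z ∧ x * x = z := by
  obtain ⟨x, hx, hxA⟩ := SetLike.not_le_iff_exists.1 hT.not_le
  obtain ⟨y, hy⟩ : ∃ y, y = a * x * a⁻¹ := ⟨_, rfl⟩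
  obtain ⟨w, hw⟩ : ∃ w, w = a * y * a⁻¹ := ⟨_, rfl⟩
  have hyT : y ∈ T := by rw [hy]; exact conj_mem_of_le_normalizer hT.norm haA hx
  have hwT : w ∈ T := by rw [hw]; exact conj_mem_of_le_normalizer hT.norm haA hyT
  have haw : a * w * a⁻¹ = x := by
    rw [hw, hy]
    have h1 : a⁻¹ * a⁻¹ * a⁻¹ = (a ^ 3)⁻¹ := by rw [pow_succ, pow_two, mul_inv_rev, mul_inv_rev]; group
    calc a * (a * (a * x * a⁻¹) * a⁻¹) * a⁻¹ = a ^ 3 * x * (a⁻¹ * a⁻¹ * a⁻¹) := by
          rw [pow_succ, pow_two]; simp only [mul_assoc]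
      _ = x := by rw [h1, ha3, inv_one, one_mul, mul_one]
  have hxz : ¬ (x = 1 ∨ x = z) := by
    rintro (rfl | rfl)
    · exact hxA (one_mem _)
    · exact hxA (mem_centralizer_iff.2 hE.zA)
  obtain ⟨v, hv⟩ : ∃ v, v = x * y * w := ⟨_, rfl⟩
  have hvT : v ∈ T := by rw [hv]; exact mul_mem (mul_mem hx hyT) hwT
  have hzle : zpowers z ≤ T := by rw [zpowers_le]; exact hE.zT
  have hzz : a * z * a⁻¹ = z := by rw [hE.zA a haA, mul_inv_cancel_right]
  -- `v` is centralised by `A`
  have hva : a * v * a⁻¹ = ⁅x⁻¹, v⁆ * v := by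
    have h1 : a * v * a⁻¹ = y * w * x := by
      calc a * v * a⁻¹ = (a * x * a⁻¹) * (a * y * a⁻¹) * (a * w * a⁻¹) := by rw [hv]; group
        _ = y * w * x := by rw [← hy, ← hw, haw]
    rw [h1, hv, commutatorElement_def]
    group
  have hvA : v ∈ centralizer (A : Set G) := by
    have hle : zpowers v ⊔ zpowers z ≤ T := sup_le (by rwa [zpowers_le]) hzle
    have hinv : ∀ u ∈ zpowers v ⊔ zpowers z, a * u * a⁻¹ ∈ zpowers v ⊔ zpowers z := by
      have h1 : zpowers v ⊔ zpowers z ≤
          (zpowers v ⊔ zpowers z).comap (MulAut.conj a).toMonoidHom := by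
        refine sup_le ?_ ?_
        · rw [zpowers_le, mem_comap]
          show a * v * a⁻¹ ∈ _
          rw [hva]
          refine mul_mem ?_ (mem_sup_left (Subgroup.mem_zpowers v))
          apply mem_sup_right
          rw [hE.mem_zpowers]
          exact hE.comm _ (inv_mem hx) _ hvT
        · rw [zpowers_le, mem_comap]
          show a * z * a⁻¹ ∈ _
          rw [hzz]
          exact mem_sup_right (Subgroup.mem_zpowers z)
      exact fun u hu => h1 hu
    rcases hT.le_or hle (norm_of_gen hTB hAB hle hinv) with h2 | h2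
    · exfalso
      -- then `T` is abelian
      apply hxz
      apply hE.cen x hx
      have h3 : zpowers v ⊔ zpowers z ≤ centralizer ((zpowers v ⊔ zpowers z : Subgroup G) : Set G) := by
        have h4 : ∀ u ∈ T, z * u = u * z := hE.zc
        refine sup_le ?_ ?_
        · rw [le_centralizer_iff]
          refine sup_le ?_ ?_
          · rw [le_centralizer_iff, zpowers_le, mem_centralizer_iff]
            rintro _ ⟨n, rfl⟩
            exact (Commute.zpow_self v n).eq
          · rw [zpowers_le, mem_centralizer_iff]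
            intro u hu
            exact (h4 u ((show zpowers v ≤ T by rwa [zpowers_le]) hu)).symm
        · rw [zpowers_le, mem_centralizer_iff]
          intro u hu
          exact (h4 u (hle hu)).symm
      rw [h2] at h3
      intro y' hy'
      exact mem_centralizer_iff.1 (h3 hx) y' hy'
    · exact h2 (mem_sup_left (Subgroup.mem_zpowers v))
  have hNn : A ≤ normalizer ((zpowers z : Subgroup G) : Set G) := by
    apply le_normalizer_of_conj_mem
    intro a' ha' u hu
    rw [hE.mem_zpowers] at hu ⊢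
    rcases hu with rfl | rfl
    · left; group
    · right; rw [hE.zA a' ha', mul_inv_cancel_right]
  have hTT : ⁅T, T⁆ ≤ zpowers z := by
    rw [commutator_le]
    intro a ha b hb
    rw [hE.mem_zpowers]
    exact hE.comm a ha b hb
  have hmem : ∀ u ∈ T, u ∈ centralizer (A : Set G) → u = 1 ∨ u = z := by
    intro u hu huA
    rw [← hE.mem_zpowers]
    refine hT.mem_of_fixed hco hzle hNn hTT hu ?_
    intro a' ha'
    rw [show ⁅u, a'⁆ = 1 from commutatorElement_eq_one_iff_mul_comm.2
      (mem_centralizer_iff.1 huA a' ha').symm]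
    exact one_mem _
  have hvz : v = 1 ∨ v = z := hmem v hvT hvA
  -- `T` is generated by `x`, `y`, `z`
  have hgen : T = closure {x, y} ⊔ zpowers z := by
    have hle : closure {x, y} ⊔ zpowers z ≤ T := by
      refine sup_le ?_ hzle
      rw [closure_le]
      rintro _ (rfl | rfl)
      · exact hx
      · exact hyT
    have hxm : x ∈ closure {x, y} ⊔ zpowers z := mem_sup_left (subset_closure (Or.inl rfl))
    have hym : y ∈ closure {x, y} ⊔ zpowers z := mem_sup_left (subset_closure (Or.inr rfl))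
    have hzm : z ∈ closure {x, y} ⊔ zpowers z := mem_sup_right (Subgroup.mem_zpowers z)
    have hwm : w ∈ closure {x, y} ⊔ zpowers z := by
      have h1 : w = (x * y)⁻¹ * v := by rw [hv]; group
      rw [h1]
      refine mul_mem (inv_mem (mul_mem hxm hym)) ?_
      rcases hvz with h | h
      · rw [h]; exact one_mem _
      · rw [h]; exact hzm
    have hinv : ∀ u ∈ closure {x, y} ⊔ zpowers z, a * u * a⁻¹ ∈ closure {x, y} ⊔ zpowers z := by
      have h1 : closure {x, y} ⊔ zpowers z ≤
          (closure {x, y} ⊔ zpowers z).comap (MulAut.conj a).toMonoidHom := by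
        refine sup_le ?_ ?_
        · rw [closure_le]
          rintro u (hu | hu)
          · rw [hu]
            show a * x * a⁻¹ ∈ closure {x, y} ⊔ zpowers z
            rw [← hy]; exact hym
          · rw [Set.mem_singleton_iff.1 hu]
            show a * y * a⁻¹ ∈ closure {x, y} ⊔ zpowers z
            rw [← hw]; exact hwm
        · rw [zpowers_le, mem_comap]
          show a * z * a⁻¹ ∈ _
          rw [hzz]
          exact hzm
      exact fun u hu => h1 hu
    rcases hT.le_or hle (norm_of_gen hTB hAB hle hinv) with h2 | h2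
    · exact h2.symm
    · exact absurd (h2 hxm) hxA
  have hxy : ⁅x, y⁆ = z := by
    rcases hE.comm x hx y hyT with h | h
    · exfalso
      apply hxz
      apply hE.cen x hx
      have h1 : T ≤ centralizer ({x} : Set G) := by
        rw [hgen]
        refine sup_le ?_ ?_
        · rw [closure_le]
          rintro _ (rfl | rfl)
          · exact mem_centralizer_singleton_iff.2 rfl
          · exact mem_centralizer_singleton_iff.2 (commutatorElement_eq_one_iff_mul_comm.1 h).symm
        · rw [zpowers_le]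
          exact mem_centralizer_singleton_iff.2 (hE.zc x hx)
      intro u hu
      exact mem_centralizer_singleton_iff.1 (h1 hu)
    · exact h
  refine ⟨x, hx, v, hvz, ?_, ?_, ?_⟩
  · rw [← hy, ← hw, hv]
  · rw [← hy, hxy]
  · rcases hE.sq x hx with h | h
    · exfalso
      have hyy : y * y = 1 := by
        rw [hy]
        calc a * x * a⁻¹ * (a * x * a⁻¹) = a * (x * x) * a⁻¹ := by group
          _ = 1 := by rw [h]; group
      have hww : w * w = 1 := by
        rw [hw]
        calc a * y * a⁻¹ * (a * y * a⁻¹) = a * (y * y) * a⁻¹ := by group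
          _ = 1 := by rw [hyy]; group
      have hvv : v * v = 1 := by
        rcases hvz with h1 | h1
        · rw [h1, one_mul]
        · rw [h1, hE.zz]
      have hvw : v * w = w * v := by
        rcases hvz with h1 | h1
        · rw [h1, one_mul, mul_one]
        · rw [h1]; exact hE.zc w hwT
      have hxi : x⁻¹ = x := inv_eq_of_mul_eq_one_left h
      have hyi : y⁻¹ = y := inv_eq_of_mul_eq_one_left hyy
      have hwi : w⁻¹ = w := inv_eq_of_mul_eq_one_left hww
      have h2 : x * y = v * w := by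
        rw [hv, mul_assoc, hww, mul_one]
      have h3 : ⁅x, y⁆ = 1 := by
        rw [commutatorElement_def, hxi, hyi, mul_assoc (x * y) x y, h2]
        calc v * w * (v * w) = v * (w * v) * w := by group
          _ = (v * v) * (w * w) := by rw [← hvw]; group
          _ = 1 := by rw [hvv, hww, one_mul]
      rw [h3] at hxy
      exact hE.z1 hxy.symm
    · exact h

end Cfsg.Agent.H810.KM
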