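import Cfsg.Agent.H810.KMExtra

/-!
# The theorem of Klinger and Mason (helper810)

A group of characteristic 2-type which is of local characteristic `p` (`p` odd) has 2-local `p`-rank at
most two.
-/

set_option autoImplicit false

namespace Cfsg.Agent.H810.KM

open Subgroup
open scoped commutatorElement
open Cfsg.Agent.SignalizersComponents.GoldschmidtGen (le_normalizer_of_conj_mem
  conj_mem_of_le_normalizer)
open Cfsg.Agent.Transfer.ExtraspecialTwo (CentralTwo)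

variable {G : Type*} [Group G]

/-- two commuting extraspecial groups, centralised by the hyperplanes `B₁`, `B₂` -/
structure Pair (A T₁ T₂ B₁ B₂ : Subgroup G) (z : G) (p m : ℕ) : Prop where
  hA : Cfsg.IsElementaryAbelian p A
  hAc : Nat.card A = p ^ m
  B1 : B₁ ≤ A
  B2 : B₂ ≤ A
  B1i : B₁.relIndex A = p
  B2i : B₂.relIndex A = p
  M1 : Mn A T₁
  M2 : Mn A T₂
  E1 : Ex A T₁ z
  E2 : Ex A T₂ z
  TB1 : T₁ ≤ centralizer (B₁ : Set G)
  TB2 : T₂ ≤ centralizer (B₂ : Set G)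
  TT : T₂ ≤ centralizer (T₁ : Set G)

theorem Pair.exists_D [Finite G] {p m : ℕ} [hp : Fact p.Prime] {A T₁ T₂ B₁ B₂ : Subgroup G} {z : G}
    (H : Hyp p m G) (P : Pair A T₁ T₂ B₁ B₂ z p m) :
    ∃ j, Nat.card (B₁ ⊓ B₂ : Subgroup G) = p ^ j ∧ m - 2 ≤ j := by
  have h3 := H.three
  obtain ⟨n, rfl⟩ : ∃ n, m = n + 2 := ⟨m - 2, by omega⟩
  obtain ⟨j, h1, h2⟩ := card_inf_hyperplane P.B1 P.B1i P.B2i P.hAc (elab_pgroup P.hA)
  exact ⟨j, h1, by omega⟩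

/-! ### `p ≠ 3` -/

theorem two_le_width [Finite G] {p : ℕ} [hp : Fact p.Prime] (hp2 : p ≠ 2) (hp3 : p ≠ 3)
    {A T : Subgroup G} {z : G} (hA : Cfsg.IsElementaryAbelian p A) (hT : Mn A T) (hE : Ex A T z) :
    ∃ n, 2 ≤ n ∧ Nat.card T = 2 ^ (2 * n + 1) := by
  obtain ⟨n, hn, hc⟩ := hE.card
  refine ⟨n, ?_, hc⟩
  by_contra hlt
  have hn1 : n = 1 := by omega
  subst hn1
  obtain ⟨x, hx, hxA⟩ := SetLike.not_le_iff_exists.1 hT.not_le
  rw [mem_centralizer_iff] at hxA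
  push Not at hxA
  obtain ⟨a, ha, hax⟩ := hxA
  have h1 := J3.Fix.card_subgroup_modEq hp.out T a (hA.2 a ha)
    (fun q hq => conj_mem_of_le_normalizer hT.norm ha hq)
  have hle : T ⊓ centralizer ({a} : Set G) < T := by
    refine lt_of_le_of_ne inf_le_left fun h => hax ?_
    have h2 : x ∈ T ⊓ centralizer ({a} : Set G) := by rw [h]; exact hx
    exact (mem_centralizer_singleton_iff.1 h2.2).symm
  obtain ⟨k, hk⟩ := IsPGroup.iff_card.1 (hT.two.to_le (inf_le_left : T ⊓ centralizer ({a} : Set G) ≤ T))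
  have h8 : Nat.card T = 8 := by rw [hc]; norm_num
  have hlt2 : Nat.card (T ⊓ centralizer ({a} : Set G) : Subgroup G) < Nat.card T := by
    by_contra hge
    exact hle.ne (eq_of_le_of_card_ge hle.le (not_lt.1 hge))
  have hzin : zpowers z ≤ T ⊓ centralizer ({a} : Set G) := by
    rw [zpowers_le]
    exact ⟨hE.zT, mem_centralizer_singleton_iff.2 (hE.zA a ha).symm⟩
  have hge2 : 2 ∣ Nat.card (T ⊓ centralizer ({a} : Set G) : Subgroup G) := by
    have := card_dvd_of_le hzin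
    rwa [Nat.card_zpowers, hE.order] at this
  rw [h8] at h1 hlt2
  rw [hk] at h1 hlt2 hge2
  have hk3 : k < 3 := by
    by_contra hcon
    have : 2 ^ 3 ≤ 2 ^ k := Nat.pow_le_pow_right (by norm_num) (by omega)
    omega
  have hp5 : 5 ≤ p := by
    by_contra hcon
    have := hp.out.two_le
    interval_cases p
    · exact hp2 rfl
    · exact hp3 rfl
    · exact absurd hp.out (by norm_num)
  have h9 : (p : ℤ) ∣ (2 ^ k : ℕ) - (8 : ℕ) := (Nat.modEq_iff_dvd).1 h1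
  interval_cases k
  · norm_num at hge2
  · have h10 : (p : ℤ) ∣ 6 := by
      have : ((2 ^ 1 : ℕ) : ℤ) - ((8 : ℕ) : ℤ) = -6 := by norm_num
      rw [this, dvd_neg] at h9
      exact h9
    have h11 : p ∣ 6 := by exact_mod_cast h10
    have h12 : p ∣ 2 * 3 := h11
    rcases (hp.out.dvd_mul).1 h12 with h | h
    · have := Nat.le_of_dvd (by norm_num) h; omega
    · have := Nat.le_of_dvd (by norm_num) h; omega
  · have h10 : (p : ℤ) ∣ 4 := by
      have : ((2 ^ 2 : ℕ) : ℤ) - ((8 : ℕ) : ℤ) = -4 := by norm_num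
      rw [this, dvd_neg] at h9
      exact h9
    have h11 : p ∣ 4 := by exact_mod_cast h10
    have := Nat.le_of_dvd (by norm_num) h11
    omega

theorem Pair.notThree [Finite G] {p m : ℕ} [hp : Fact p.Prime] {A T₁ T₂ B₁ B₂ : Subgroup G} {z : G}
    (H : Hyp p m G) (P : Pair A T₁ T₂ B₁ B₂ z p m) (hp3 : p ≠ 3) : False := by
  obtain ⟨n₁, hn₁, hc₁⟩ := two_le_width H.odd hp3 P.hA P.M1 P.E1
  obtain ⟨n₂, hn₂, hc₂⟩ := two_le_width H.odd hp3 P.hA P.M2 P.E2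
  obtain ⟨j, hj, hjm⟩ := P.exists_D H
  have hm := H.three
  have hcomm : ∀ a ∈ T₁, ∀ b ∈ T₂, a * b = b * a := fun a ha b hb =>
    mem_centralizer_iff.1 (P.TT hb) a ha
  -- the central product
  have hinf : T₁ ⊓ T₂ = zpowers z := by
    apply le_antisymm
    · intro x hx
      rw [P.E1.mem_zpowers]
      exact P.E1.cen x hx.1 fun y hy => hcomm y hy x hx.2
    · rw [zpowers_le]
      exact ⟨P.E1.zT, P.E2.zT⟩
  have hcard : Nat.card (T₁ ⊔ T₂ : Subgroup G) = 2 ^ (2 * (n₁ + n₂) + 1) := by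
    have h1 : Nat.card (T₁ ⊔ T₂ : Subgroup G) * Nat.card (T₁ ⊓ T₂ : Subgroup G) =
        Nat.card T₁ * Nat.card T₂ := by
      rw [← Cfsg.Agent.Lib.ProductSet.card_mul_card_inf T₁ T₂,
        ← Subgroup.coe_mul_of_right_le_normalizer_left T₁ T₂
          (P.TT.trans (centralizer_le_normalizer _))]
      rfl
    rw [hinf, Nat.card_zpowers, P.E1.order, hc₁, hc₂] at h1
    apply Nat.eq_of_mul_eq_mul_right (show 0 < 2 by norm_num)
    rw [h1]
    ring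
  have hzP : z ∈ T₁ ⊔ T₂ := mem_sup_left P.E1.zT
  have hzc : ∀ x ∈ T₁ ⊔ T₂, z * x = x * z := by
    intro x hx
    obtain ⟨a, ha, b, hb, rfl⟩ := mem_sup_comm hcomm hx
    calc z * (a * b) = (z * a) * b := by group
      _ = a * (z * b) := by rw [P.E1.zc a ha]; group
      _ = a * b * z := by rw [P.E2.zc b hb]; group
  have hcz : ∀ x ∈ T₁ ⊔ T₂, ∀ y ∈ T₁ ⊔ T₂, ⁅x, y⁆ = 1 ∨ ⁅x, y⁆ = z := by
    intro x hx y hy
    obtain ⟨a, ha, b, hb, rfl⟩ := mem_sup_comm hcomm hx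
    obtain ⟨c, hc, d, hd, rfl⟩ := mem_sup_comm hcomm hy
    have h1 : ⁅a * b, c * d⁆ = ⁅a, c⁆ * ⁅b, d⁆ := by
      rw [commutatorElement_def, commutatorElement_def, commutatorElement_def]
      have e1 : Commute b c := (hcomm c hc b hb).symm
      have e2 : Commute b a⁻¹ := (hcomm a⁻¹ (inv_mem ha) b hb).symm
      have e3 : Commute d a⁻¹ := (hcomm a⁻¹ (inv_mem ha) d hd).symm
      have e4 : Commute (b * d * b⁻¹ * d⁻¹) c⁻¹ :=
        (hcomm c⁻¹ (inv_mem hc) _ (mul_mem (mul_mem (mul_mem hb hd) (inv_mem hb)) (inv_mem hd))).symm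
      have e5 : Commute (b * d * b⁻¹) a⁻¹ :=
        (hcomm a⁻¹ (inv_mem ha) _ (mul_mem (mul_mem hb hd) (inv_mem hb))).symm
      calc a * b * (c * d) * (a * b)⁻¹ * (c * d)⁻¹
          = a * (b * c) * d * b⁻¹ * a⁻¹ * d⁻¹ * c⁻¹ := by group
        _ = a * c * ((b * d * b⁻¹) * a⁻¹) * d⁻¹ * c⁻¹ := by rw [e1.eq]; group
        _ = a * c * a⁻¹ * ((b * d * b⁻¹ * d⁻¹) * c⁻¹) := by rw [e5.eq]; group
        _ = a * c * a⁻¹ * c⁻¹ * (b * d * b⁻¹ * d⁻¹) := by rw [e4.eq]; group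
    rw [h1]
    rcases P.E1.comm a ha c hc with h2 | h2 <;> rcases P.E2.comm b hb d hd with h3 | h3 <;>
      rw [h2, h3]
    · left; rw [one_mul]
    · right; rw [one_mul]
    · right; rw [mul_one]
    · left; exact P.E1.zz
  have hCT : CentralTwo ↥(T₁ ⊔ T₂) := by
    have hcen : ∀ x : ↥(T₁ ⊔ T₂), x ∈ center ↥(T₁ ⊔ T₂) ↔ (x : G) = 1 ∨ (x : G) = z := by
      rintro ⟨x, hx⟩
      constructor
      · intro hxc
        rw [mem_center_iff] at hxc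
        obtain ⟨a, ha, b, hb, hab⟩ := mem_sup_comm hcomm hx
        have ha' : a = 1 ∨ a = z := by
          apply P.E1.cen a ha
          intro y hy
          have h1 : y * x = x * y := congrArg Subtype.val (hxc ⟨y, mem_sup_left hy⟩)
          rw [hab] at h1
          have h2 : y * a * b = a * y * b := by
            rw [mul_assoc, h1, mul_assoc, ← hcomm y hy b hb, mul_assoc]
          exact mul_right_cancel h2
        have hb' : b = 1 ∨ b = z := by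
          apply P.E2.cen b hb
          intro y hy
          have h1 : y * x = x * y := congrArg Subtype.val (hxc ⟨y, mem_sup_right hy⟩)
          rw [hab] at h1
          have h2 : a * (y * b) = a * (b * y) := by
            rw [← mul_assoc, hcomm a ha y hy, mul_assoc, h1, mul_assoc]
          exact mul_left_cancel h2
        show x = 1 ∨ x = z
        rw [hab]
        rcases ha' with rfl | rfl <;> rcases hb' with rfl | rfl
        · left; rw [one_mul]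
        · right; rw [one_mul]
        · right; rw [mul_one]
        · left; exact P.E1.zz
      · rintro (h | h)
        · have : (⟨x, hx⟩ : ↥(T₁ ⊔ T₂)) = 1 := Subtype.ext h
          rw [this]; exact one_mem _
        · rw [mem_center_iff]
          intro y
          refine Subtype.ext ?_
          show (y : G) * x = x * y
          rw [show x = z from h]
          exact (hzc y y.2).symm
    refine ⟨fun a b => (hcen _).2 (hcz a a.2 b b.2), ?_⟩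
    rw [Nat.card_eq_two_iff' (1 : center ↥(T₁ ⊔ T₂))]
    refine ⟨⟨⟨z, hzP⟩, (hcen _).2 (Or.inr rfl)⟩, ?_, ?_⟩
    · intro h
      exact P.E1.z1 (congrArg Subtype.val (congrArg Subtype.val h))
    · rintro ⟨x, hx⟩ hne
      rcases (hcen x).1 hx with h | h
      · exact absurd (Subtype.ext (Subtype.ext h)) hne
      · exact Subtype.ext (Subtype.ext h)
  have hrank : ¬ Cfsg.PRankLE 2 3 ↥(T₁ ⊔ T₂) := by
    rcases H442.ExtraRank.rank_cases (n₁ + n₂) hCT hcard with ⟨-, h⟩ | h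
    · rw [h]; omega
    · rw [h]; omega
  rw [Cfsg.PRankLE] at hrank
  push Not at hrank
  obtain ⟨E, hEc, hE2, hE8⟩ := hrank
  have hel : Cfsg.IsElementaryAbelian 2 (E.map (T₁ ⊔ T₂).subtype) := by
    refine elab_of ?_ ?_
    · rintro _ ⟨a, ha, rfl⟩ _ ⟨b, hb, rfl⟩
      have : (⟨a, ha⟩ : E) * ⟨b, hb⟩ = ⟨b, hb⟩ * ⟨a, ha⟩ := hEc.is_comm.comm _ _
      exact congrArg (fun t : E => ((t : ↥(T₁ ⊔ T₂)) : G)) this
    · rintro _ ⟨a, ha, rfl⟩
      exact congrArg (fun t : ↥(T₁ ⊔ T₂) => (t : G)) (hE2 a ha)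
  have hcE : Nat.card (E.map (T₁ ⊔ T₂).subtype) = Nat.card E :=
    (Nat.card_congr (E.equivMapOfInjective _ (T₁ ⊔ T₂).subtype_injective).toEquiv).symm
  have h2 : Fact (Nat.Prime 2) := ⟨Nat.prime_two⟩
  obtain ⟨e, he⟩ := IsPGroup.iff_card.1 (elab_pgroup hel)
  have he4 : 4 ≤ e := by
    by_contra hcon
    have h3 : 2 ^ e ≤ 2 ^ 3 := Nat.pow_le_pow_right (by norm_num) (by omega)
    rw [← he, hcE] at h3
    omega
  have hED : E.map (T₁ ⊔ T₂).subtype ≤ centralizer ((B₁ ⊓ B₂ : Subgroup G) : Set G) := by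
    refine (map_subtype_le E).trans (sup_le ?_ ?_)
    · exact P.TB1.trans (centralizer_le inf_le_left)
    · exact P.TB2.trans (centralizer_le inf_le_right)
  have := H.le (r := e - 1) (k := j) (D := B₁ ⊓ B₂) (elab_le P.hA (inf_le_left.trans P.B1)) hj
    (by omega) hel (by rw [he]; congr 1; omega) hED
  omega

/-! ### `p = 3` -/

theorem exists_not_mem_union {A B C : Subgroup G} (hB : ¬ A ≤ B) (hC : ¬ A ≤ C) :
    ∃ a ∈ A, a ∉ B ∧ a ∉ C := by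
  obtain ⟨b, hb, hbB⟩ := SetLike.not_le_iff_exists.1 hB
  obtain ⟨c, hc, hcC⟩ := SetLike.not_le_iff_exists.1 hC
  by_cases h1 : b ∈ C
  · by_cases h2 : c ∈ B
    · exact ⟨b * c, mul_mem hb hc, fun h => hbB ((B.mul_mem_cancel_right h2).1 h),
        fun h => hcC ((C.mul_mem_cancel_left h1).1 h)⟩
    · exact ⟨c, hc, h2, hcC⟩
  · exact ⟨b, hb, hbB, h1⟩

/-- the four-group `⟨t, s⟩` -/
structure Four (T₁ V : Subgroup G) (z a t s x y : G) : Prop where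
  el : Cfsg.IsElementaryAbelian 2 V
  gen : V = zpowers t ⊔ zpowers s
  conjt : a * t * a⁻¹ = s
  conjs : a * s * a⁻¹ = t * s
  hx : x ∈ T₁
  hy : y ∈ T₁
  xt : x * t * x⁻¹ = t
  xs : x * s * x⁻¹ = z * s
  yt : y * t * y⁻¹ = z * t
  ys : y * s * y⁻¹ = s
  zV : z ∉ V
  ts : t ≠ s

theorem Pair.exists_four [Finite G] {m : ℕ} {A T₁ T₂ B₁ B₂ : Subgroup G} {z : G}
    (H : Hyp 3 m G) (P : Pair A T₁ T₂ B₁ B₂ z 3 m) {a : G} (ha : a ∈ A) (ha1 : a ∉ B₁) (ha2 : a ∉ B₂) :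
    ∃ V t s x y, V ≤ T₁ ⊔ T₂ ∧ Four T₁ V z a t s x y := by
  have h3 : Fact (Nat.Prime 3) := ⟨Nat.prime_three⟩
  have hco := H.coprime P.hA
  have hcomm : ∀ a ∈ T₁, ∀ b ∈ T₂, Commute a b := fun a ha b hb =>
    mem_centralizer_iff.1 (P.TT hb) a ha
  obtain ⟨x₁, hx₁, c₁, hc₁, hp₁, hk₁, hs₁⟩ := quat P.M1 P.E1 P.TB1 (le_sup_zpowers P.B1 P.B1i ha ha1) ha
    (P.hA.2 a ha) hco
  obtain ⟨x₂, hx₂, c₂, hc₂, hp₂, hk₂, hs₂⟩ := quat P.M2 P.E2 P.TB2 (le_sup_zpowers P.B2 P.B2i ha ha2) ha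
    (P.hA.2 a ha) hco
  obtain ⟨y₁, hy₁⟩ : ∃ y, y = a * x₁ * a⁻¹ := ⟨_, rfl⟩
  obtain ⟨w₁, hw₁⟩ : ∃ w, w = a * y₁ * a⁻¹ := ⟨_, rfl⟩
  obtain ⟨y₂, hy₂⟩ : ∃ y, y = a * x₂ * a⁻¹ := ⟨_, rfl⟩
  obtain ⟨w₂, hw₂⟩ : ∃ w, w = a * y₂ * a⁻¹ := ⟨_, rfl⟩
  rw [← hy₁] at hp₁ hk₁
  rw [← hy₂] at hp₂ hk₂
  rw [← hw₁] at hp₁
  rw [← hw₂] at hp₂
  have hy₁T : y₁ ∈ T₁ := by rw [hy₁]; exact conj_mem_of_le_normalizer P.M1.norm ha hx₁
  have hw₁T : w₁ ∈ T₁ := by rw [hw₁]; exact conj_mem_of_le_normalizer P.M1.norm ha hy₁T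
  have hy₂T : y₂ ∈ T₂ := by rw [hy₂]; exact conj_mem_of_le_normalizer P.M2.norm ha hx₂
  have hw₂T : w₂ ∈ T₂ := by rw [hw₂]; exact conj_mem_of_le_normalizer P.M2.norm ha hy₂T
  have hzz := P.E1.zz
  have hzi : z⁻¹ = z := inv_eq_of_mul_eq_one_left hzz
  have hz1 : ∀ u ∈ T₁, Commute z u := P.E1.zc
  have hz2 : ∀ u ∈ T₂, Commute z u := P.E2.zc
  have haz : a * z * a⁻¹ = z := by rw [P.E1.zA a ha, mul_inv_cancel_right]
  -- the sign
  obtain ⟨δ, hδ, hδδ, hδc⟩ : ∃ δ, (δ = 1 ∨ δ = z) ∧ δ * δ = 1 ∧ δ * (c₁ * c₂) = 1 := by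
    rcases hc₁ with h1 | h1 <;> rcases hc₂ with h2 | h2 <;> rw [h1, h2]
    · exact ⟨1, Or.inl rfl, one_mul 1, by rw [one_mul, one_mul]⟩
    · exact ⟨z, Or.inr rfl, hzz, by rw [one_mul, hzz]⟩
    · exact ⟨z, Or.inr rfl, hzz, by rw [mul_one, hzz]⟩
    · exact ⟨1, Or.inl rfl, one_mul 1, by rw [one_mul, hzz]⟩
  have hδa : a * δ * a⁻¹ = δ := by
    rcases hδ with h | h <;> rw [h]
    · group
    · exact haz
  have hδ1 : ∀ u ∈ T₁, Commute δ u := by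
    intro u hu
    rcases hδ with h | h <;> rw [h]
    · exact Commute.one_left u
    · exact hz1 u hu
  have hδ2 : ∀ u ∈ T₂, Commute δ u := by
    intro u hu
    rcases hδ with h | h <;> rw [h]
    · exact Commute.one_left u
    · exact hz2 u hu
  have hδz : Commute δ z := by
    rcases hδ with h | h <;> rw [h]
    · exact Commute.one_left z
  have hδT : δ ∈ T₁ := by
    rcases hδ with h | h <;> rw [h]
    · exact one_mem _
    · exact P.E1.zT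
  obtain ⟨t, ht⟩ : ∃ t, t = δ * (x₁ * x₂) := ⟨_, rfl⟩
  obtain ⟨s, hs⟩ : ∃ s, s = δ * (y₁ * y₂) := ⟨_, rfl⟩
  have hsq : ∀ u₁ ∈ T₁, ∀ u₂ ∈ T₂, u₁ * u₁ = z → u₂ * u₂ = z → (δ * (u₁ * u₂)) * (δ * (u₁ * u₂)) = 1 := by
    intro u₁ h1 u₂ h2 e1 e2
    have h4 : Commute (u₁ * u₂) δ := ((hδ1 u₁ h1).mul_right (hδ2 u₂ h2)).symm
    calc (δ * (u₁ * u₂)) * (δ * (u₁ * u₂)) = δ * ((u₁ * u₂) * δ) * (u₁ * u₂) := by group
      _ = (δ * δ) * (u₁ * (u₂ * u₁) * u₂) := by rw [h4.eq]; group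
      _ = (u₁ * u₁) * (u₂ * u₂) := by rw [hδδ, ← (hcomm u₁ h1 u₂ h2).eq]; group
      _ = 1 := by rw [e1, e2, hzz]
  have hyy₁ : y₁ * y₁ = z := by
    rw [hy₁]
    calc a * x₁ * a⁻¹ * (a * x₁ * a⁻¹) = a * (x₁ * x₁) * a⁻¹ := by group
      _ = z := by rw [hs₁, haz]
  have hyy₂ : y₂ * y₂ = z := by
    rw [hy₂]
    calc a * x₂ * a⁻¹ * (a * x₂ * a⁻¹) = a * (x₂ * x₂) * a⁻¹ := by group
      _ = z := by rw [hs₂, haz]
  have htt : t * t = 1 := by rw [ht]; exact hsq x₁ hx₁ x₂ hx₂ hs₁ hs₂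
  have hss : s * s = 1 := by rw [hs]; exact hsq y₁ hy₁T y₂ hy₂T hyy₁ hyy₂
  have hat : a * t * a⁻¹ = s := by
    rw [ht, hs, hy₁, hy₂]
    calc a * (δ * (x₁ * x₂)) * a⁻¹ = (a * δ * a⁻¹) * (a * x₁ * a⁻¹ * (a * x₂ * a⁻¹)) := by group
      _ = δ * (a * x₁ * a⁻¹ * (a * x₂ * a⁻¹)) := by rw [hδa]
  have hau : a * s * a⁻¹ = δ * (w₁ * w₂) := by
    rw [hs, hw₁, hw₂]
    calc a * (δ * (y₁ * y₂)) * a⁻¹ = (a * δ * a⁻¹) * (a * y₁ * a⁻¹ * (a * y₂ * a⁻¹)) := by group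
      _ = δ * (a * y₁ * a⁻¹ * (a * y₂ * a⁻¹)) := by rw [hδa]
  -- conjugation in `T₁`
  have hxy : x₁ * y₁ * x₁⁻¹ = z * y₁ := by
    have h := hk₁
    rw [commutatorElement_def] at h
    rw [← h]; group
  have hyx : y₁ * x₁ * y₁⁻¹ = z * x₁ := by
    have h : ⁅y₁, x₁⁆ = z := by rw [← commutatorElement_inv, hk₁, hzi]
    rw [commutatorElement_def] at h
    rw [← h]; group
  have hxy2 : x₂ * y₂ * x₂⁻¹ = z * y₂ := by
    have h := hk₂
    rw [commutatorElement_def] at h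
    rw [← h]; group
  have hxt : x₁ * t * x₁⁻¹ = t := by
    have h1 : Commute x₁ t := by
      rw [ht]
      exact (hδ1 x₁ hx₁).symm.mul_right ((Commute.refl x₁).mul_right (hcomm x₁ hx₁ x₂ hx₂))
    rw [h1.eq, mul_inv_cancel_right]
  have hys : y₁ * s * y₁⁻¹ = s := by
    have h1 : Commute y₁ s := by
      rw [hs]
      exact (hδ1 y₁ hy₁T).symm.mul_right ((Commute.refl y₁).mul_right (hcomm y₁ hy₁T y₂ hy₂T))
    rw [h1.eq, mul_inv_cancel_right]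
  have hxs : x₁ * s * x₁⁻¹ = z * s := by
    have e1 : x₁ * δ * x₁⁻¹ = δ := by rw [← (hδ1 x₁ hx₁).eq, mul_inv_cancel_right]
    have e2 : x₁ * y₂ * x₁⁻¹ = y₂ := by rw [(hcomm x₁ hx₁ y₂ hy₂T).eq, mul_inv_cancel_right]
    rw [hs]
    calc x₁ * (δ * (y₁ * y₂)) * x₁⁻¹ = (x₁ * δ * x₁⁻¹) * ((x₁ * y₁ * x₁⁻¹) * (x₁ * y₂ * x₁⁻¹)) := by group
      _ = (δ * z) * (y₁ * y₂) := by rw [e1, hxy, e2]; group
      _ = z * (δ * (y₁ * y₂)) := by rw [hδz.eq]; group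
  have hyt : y₁ * t * y₁⁻¹ = z * t := by
    have e1 : y₁ * δ * y₁⁻¹ = δ := by rw [← (hδ1 y₁ hy₁T).eq, mul_inv_cancel_right]
    have e2 : y₁ * x₂ * y₁⁻¹ = x₂ := by rw [(hcomm y₁ hy₁T x₂ hx₂).eq, mul_inv_cancel_right]
    rw [ht]
    calc y₁ * (δ * (x₁ * x₂)) * y₁⁻¹ = (y₁ * δ * y₁⁻¹) * ((y₁ * x₁ * y₁⁻¹) * (y₁ * x₂ * y₁⁻¹)) := by group
      _ = (δ * z) * (x₁ * x₂) := by rw [e1, hyx, e2]; group
      _ = z * (δ * (x₁ * x₂)) := by rw [hδz.eq]; group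
  have hts : Commute t s := by
    -- `x₂ x₁` conjugates `s` to `z z s`
    have e1 : x₂ * δ * x₂⁻¹ = δ := by rw [← (hδ2 x₂ hx₂).eq, mul_inv_cancel_right]
    have e2 : x₂ * y₁ * x₂⁻¹ = y₁ := by
      rw [← (hcomm y₁ hy₁T x₂ hx₂).eq, mul_inv_cancel_right]
    have e3 : x₂ * s * x₂⁻¹ = z * s := by
      rw [hs]
      calc x₂ * (δ * (y₁ * y₂)) * x₂⁻¹ = (x₂ * δ * x₂⁻¹) * ((x₂ * y₁ * x₂⁻¹) * (x₂ * y₂ * x₂⁻¹)) := by group
        _ = δ * (y₁ * z) * y₂ := by rw [e1, e2, hxy2]; group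
        _ = (δ * z) * (y₁ * y₂) := by rw [← (hz1 y₁ hy₁T).eq]; group
        _ = z * (δ * (y₁ * y₂)) := by rw [hδz.eq]; group
    have e4 : x₁ * z * x₁⁻¹ = z := by rw [← (hz1 x₁ hx₁).eq, mul_inv_cancel_right]
    have e5 : Commute δ s := by
      rw [hs]
      exact (Commute.refl δ).mul_right ((hδ1 y₁ hy₁T).mul_right (hδ2 y₂ hy₂T))
    have e6 : t * s * t⁻¹ = s := by
      rw [ht]
      calc δ * (x₁ * x₂) * s * (δ * (x₁ * x₂))⁻¹ = δ * (x₁ * (x₂ * s * x₂⁻¹) * x₁⁻¹) * δ⁻¹ := by group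
        _ = δ * ((x₁ * z * x₁⁻¹) * (x₁ * s * x₁⁻¹)) * δ⁻¹ := by rw [e3]; group
        _ = δ * ((z * z) * s) * δ⁻¹ := by rw [e4, hxs]; group
        _ = s := by rw [hzz, one_mul, e5.eq, mul_inv_cancel_right]
    exact mul_inv_eq_iff_eq_mul.1 e6
  have has : a * s * a⁻¹ = t * s := by
    rw [hau]
    -- `t s u = 1`
    have e1 : w₁ = (x₁ * y₁)⁻¹ * c₁ := by rw [← hp₁]; group
    have e2 : w₂ = (x₂ * y₂)⁻¹ * c₂ := by rw [← hp₂]; group
    have hc1z : ∀ u ∈ T₂, Commute c₁ u := by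
      intro u hu
      rcases hc₁ with h | h <;> rw [h]
      · exact Commute.one_left u
      · exact hz2 u hu
    have e3 : t * s * (δ * (w₁ * w₂)) = 1 := by
      have f1 : t * s = (x₁ * y₁) * (x₂ * y₂) := by
        rw [ht, hs]
        have g1 : Commute (x₁ * x₂) δ := ((hδ1 x₁ hx₁).mul_right (hδ2 x₂ hx₂)).symm
        calc δ * (x₁ * x₂) * (δ * (y₁ * y₂)) = δ * ((x₁ * x₂) * δ) * (y₁ * y₂) := by group
          _ = (δ * δ) * (x₁ * (x₂ * y₁) * y₂) := by rw [g1.eq]; group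
          _ = (x₁ * y₁) * (x₂ * y₂) := by rw [hδδ, ← (hcomm y₁ hy₁T x₂ hx₂).eq]; group
      have f2 : Commute (x₁ * y₁) (x₂ * y₂) :=
        hcomm _ (mul_mem hx₁ hy₁T) _ (mul_mem hx₂ hy₂T)
      have f3 : Commute c₁ (x₂ * y₂)⁻¹ := hc1z _ (inv_mem (mul_mem hx₂ hy₂T))
      have f4 : Commute ((x₁ * y₁) * (x₂ * y₂)) δ :=
        ((hδ1 _ (mul_mem hx₁ hy₁T)).mul_right (hδ2 _ (mul_mem hx₂ hy₂T))).symm
      rw [f1, e1, e2]
      calc (x₁ * y₁) * (x₂ * y₂) * (δ * ((x₁ * y₁)⁻¹ * c₁ * ((x₂ * y₂)⁻¹ * c₂)))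
          = (((x₁ * y₁) * (x₂ * y₂)) * δ) * (x₁ * y₁)⁻¹ * (c₁ * (x₂ * y₂)⁻¹) * c₂ := by group
        _ = δ * ((x₁ * y₁) * (x₂ * y₂)) * (x₁ * y₁)⁻¹ * ((x₂ * y₂)⁻¹ * c₁) * c₂ := by
            rw [f4.eq, f3.eq]
        _ = δ * (c₁ * c₂) := by rw [f2.eq]; group
        _ = 1 := hδc
    have e4 : (t * s) * (t * s) = 1 := by
      calc (t * s) * (t * s) = t * (s * t) * s := by group
        _ = (t * t) * (s * s) := by rw [← hts.eq]; group
        _ = 1 := by rw [htt, hss, one_mul]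
    exact mul_left_cancel (e3.trans e4.symm)
  obtain ⟨V, hV⟩ : ∃ V, V = zpowers t ⊔ zpowers s := ⟨_, rfl⟩
  have htT : t ∈ T₁ ⊔ T₂ := by
    rw [ht]
    exact mul_mem (mem_sup_left hδT) (mul_mem (mem_sup_left hx₁) (mem_sup_right hx₂))
  have hsT : s ∈ T₁ ⊔ T₂ := by
    rw [hs]
    exact mul_mem (mem_sup_left hδT) (mul_mem (mem_sup_left hy₁T) (mem_sup_right hy₂T))
  have hne : t ≠ s := by
    rintro h
    rw [h, hxs] at hxt
    exact P.E1.z1 (by simpa using hxt)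
  refine ⟨V, t, s, x₁, y₁, ?_, ?_⟩
  · rw [hV]
    exact sup_le (by rwa [zpowers_le]) (by rwa [zpowers_le])
  · refine ⟨?_, hV, hat, has, hx₁, hy₁T, hxt, hxs, hyt, hys, ?_, hne⟩
    · rw [hV]
      refine elab_sup (elab_zpowers (by rw [pow_two]; exact htt))
        (elab_zpowers (by rw [pow_two]; exact hss)) ?_
      rintro _ ⟨i, rfl⟩ _ ⟨j, rfl⟩
      exact (hts.zpow_zpow i j).eq
    · intro hzV
      rw [hV] at hzV
      obtain ⟨_, ⟨i, rfl⟩, _, ⟨j, rfl⟩, hij⟩ := mem_sup_comm (by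
        rintro _ ⟨i, rfl⟩ _ ⟨j, rfl⟩
        exact (hts.zpow_zpow i j).eq) hzV
      have hpt : ∀ i : ℤ, t ^ i = 1 ∨ t ^ i = t := by
        intro i
        rcases Int.even_or_odd' i with ⟨k, rfl | rfl⟩
        · left; rw [zpow_mul, zpow_two, htt, one_zpow]
        · right; rw [zpow_add, zpow_mul, zpow_two, htt, one_zpow, one_mul, zpow_one]
      have hps : ∀ i : ℤ, s ^ i = 1 ∨ s ^ i = s := by
        intro i
        rcases Int.even_or_odd' i with ⟨k, rfl | rfl⟩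
        · left; rw [zpow_mul, zpow_two, hss, one_zpow]
        · right; rw [zpow_add, zpow_mul, zpow_two, hss, one_zpow, one_mul, zpow_one]
      have hxz : x₁ * z * x₁⁻¹ = z := by rw [← (hz1 x₁ hx₁).eq, mul_inv_cancel_right]
      have hyz : y₁ * z * y₁⁻¹ = z := by rw [← (hz1 y₁ hy₁T).eq, mul_inv_cancel_right]
      rcases hpt i with h1 | h1 <;> rcases hps j with h2 | h2 <;>
        rw [show (fun x => t ^ x) i = t ^ i from rfl, show (fun x => s ^ x) j = s ^ j from rfl, h1, h2] at hij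
      · exact P.E1.z1 (by rw [hij, one_mul])
      · rw [one_mul] at hij
        have h5 : z * s = s := by rw [← hxs, ← hij, hxz]
        exact P.E1.z1 (by simpa using h5)
      · rw [mul_one] at hij
        have h5 : z * t = t := by rw [← hyt, ← hij, hyz]
        exact P.E1.z1 (by simpa using h5)
      · have h5 : x₁ * (t * s) * x₁⁻¹ = z * (t * s) := by
          calc x₁ * (t * s) * x₁⁻¹ = (x₁ * t * x₁⁻¹) * (x₁ * s * x₁⁻¹) := by group
            _ = t * z * s := by rw [hxt, hxs]; group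
            _ = z * (t * s) := by
              have : Commute t z := by
                rw [ht]
                exact (hδz.mul_left ((hz1 x₁ hx₁).symm.mul_left (hz2 x₂ hx₂).symm))
              rw [this.eq]; group
        rw [← hij, hxz] at h5
        have h6 : z * z = z := h5.symm
        rw [hzz] at h6
        exact P.E1.z1 h6.symm

end Cfsg.Agent.H810.KM
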