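import Cfsg.Agent.H810.KMBasic
import Cfsg.Agent.S0094

/-!
# Groups of characteristic 2-type and of local characteristic `p`: minimal 2-groups (helper810)

`A` is an elementary abelian `p`-group of the largest rank `m ≥ 3` normalising a nontrivial 2-group.  No
elementary abelian 2-group is normalised, but not centralised by `A` (`noV`), and all minimal `A`-invariant
2-groups not centralised by `A` are extraspecial (`extra`).
-/

set_option autoImplicit false

namespace Cfsg.Agent.H810.KM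

open Subgroup
open scoped commutatorElement
open Cfsg.Agent.SignalizersComponents.GoldschmidtGen (le_normalizer_of_conj_mem
  conj_mem_of_le_normalizer)
open Cfsg.Agent.H440

variable {G : Type*} [Group G]

/-- `A` has order `p ^ m`, `m ≥ 3` maximal -/
structure Hyp (p m : ℕ) (G : Type*) [Group G] : Prop where
  odd : p ≠ 2
  lcp : LC p G
  lc2 : LC 2 G
  max : ∀ k, Pk p k G → k ≤ m
  three : 3 ≤ m

/-- minimal among the `A`-invariant 2-groups not centralised by `A` -/
structure Mn (A T : Subgroup G) : Prop where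
  two : IsPGroup 2 T
  norm : A ≤ normalizer (T : Set G)
  ne : ⁅T, A⁆ ≠ ⊥
  min : ∀ U : Subgroup G, U < T → A ≤ normalizer (U : Set G) → ⁅U, A⁆ = ⊥

theorem comm_bot_iff {T A : Subgroup G} : ⁅T, A⁆ = ⊥ ↔ T ≤ centralizer (A : Set G) :=
  commutator_eq_bot_iff_le_centralizer

theorem exists_Mn [Finite G] {A T : Subgroup G} (h2 : IsPGroup 2 T) (hn : A ≤ normalizer (T : Set G))
    (hne : ⁅T, A⁆ ≠ ⊥) : ∃ T' ≤ T, Mn A T' := by
  obtain ⟨M, hMT, hM⟩ := Set.Finite.exists_le_minimal
    (s := {U : Subgroup G | A ≤ normalizer (U : Set G) ∧ ⁅U, A⁆ ≠ ⊥}) (Set.toFinite _) (a := T) ⟨hn, hne⟩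
  refine ⟨M, hMT, h2.to_le hMT, hM.prop.1, hM.prop.2, ?_⟩
  intro U hU hUn
  by_contra hcon
  exact hU.not_ge (hM.le_of_le ⟨hUn, hcon⟩ hU.le)

theorem Mn.le_or [Finite G] {A T U : Subgroup G} (h : Mn A T) (hU : U ≤ T)
    (hn : A ≤ normalizer (U : Set G)) : U = T ∨ U ≤ centralizer (A : Set G) := by
  rcases hU.eq_or_lt with h1 | h1
  · exact Or.inl h1
  · exact Or.inr (comm_bot_iff.1 (h.min U h1 hn))

theorem Mn.ne_bot {A T : Subgroup G} (h : Mn A T) : T ≠ ⊥ := by
  rintro rfl
  exact h.ne (commutator_bot_left _)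

theorem Mn.not_le {A T : Subgroup G} (h : Mn A T) : ¬ T ≤ centralizer (A : Set G) := fun hc =>
  h.ne (comm_bot_iff.2 hc)

theorem Mn.comm_eq [Finite G] {A T : Subgroup G} (h : Mn A T) (hA : (Nat.card A).Coprime 2) :
    ⁅T, A⁆ = T :=
  have : Fact (Nat.Prime 2) := ⟨Nat.prime_two⟩
  MinimalAction.commutator_eq h.two h.norm le_rfl le_normalizer hA h.ne h.min

theorem Mn.mem_of_fixed [Finite G] {A T : Subgroup G} (h : Mn A T) (hA : (Nat.card A).Coprime 2)
    {N : Subgroup G} (hN : N ≤ T) (hAN : A ≤ normalizer (N : Set G)) (hTT : ⁅T, T⁆ ≤ N) {x : G}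
    (hx : x ∈ T) (hfix : ∀ a ∈ A, ⁅x, a⁆ ∈ N) : x ∈ N :=
  have : Fact (Nat.Prime 2) := ⟨Nat.prime_two⟩
  MinimalAction.mem_of_fixed h.two h.norm le_rfl hA (h.comm_eq hA) hN hAN hTT hx hfix

theorem Mn.frat_le_centralizer [Finite G] {A T : Subgroup G} (h : Mn A T) :
    MinimalAction.frat T ≤ centralizer (A : Set G) := by
  rcases h.le_or (MinimalAction.frat_le T) (MinimalAction.le_normalizer_frat h.norm) with h1 | h1
  · exact absurd h1 (MinimalAction.frat_ne h.ne_bot)
  · exact h1

theorem Mn.elab_of_inf [Finite G] {A T : Subgroup G} (h : Mn A T)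
    (hc : T ⊓ centralizer (A : Set G) = ⊥) : Cfsg.IsElementaryAbelian 2 T := by
  have : Fact (Nat.Prime 2) := ⟨Nat.prime_two⟩
  have h1 : MinimalAction.frat T = ⊥ := by
    rw [eq_bot_iff, ← hc]
    exact le_inf (MinimalAction.frat_le T) h.frat_le_centralizer
  refine elab_of ?_ ?_
  · intro a ha b hb
    have h2 : ⁅a, b⁆ ∈ MinimalAction.frat T :=
      MinimalAction.commutator_le_frat h.two (commutator_mem_commutator ha hb)
    rw [h1, mem_bot] at h2
    exact commutatorElement_eq_one_iff_mul_comm.1 h2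
  · intro a ha
    have h2 : a ^ 2 ∈ MinimalAction.frat T := MinimalAction.pow_mem_frat h.two ha
    rwa [h1, mem_bot] at h2

theorem Mn.inf_of_elab [Finite G] {A T : Subgroup G} (h : Mn A T) (hA : (Nat.card A).Coprime 2)
    (hT : Cfsg.IsElementaryAbelian 2 T) : T ⊓ centralizer (A : Set G) = ⊥ := by
  rw [eq_bot_iff]
  intro x hx
  refine h.mem_of_fixed hA bot_le ?_ ?_ hx.1 ?_
  · exact le_normalizer_of_conj_mem fun a _ x hx => by
      rw [mem_bot] at hx ⊢
      rw [hx, mul_one, mul_inv_cancel]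
  · rw [commutator_le]
    intro a ha b hb
    rw [mem_bot, commutatorElement_eq_one_iff_mul_comm]
    exact elab_comm hT ha hb
  · intro a ha
    rw [mem_bot, commutatorElement_eq_one_iff_mul_comm]
    exact (mem_centralizer_iff.1 hx.2 a ha).symm

theorem Mn.card_eq [Finite G] {A T : Subgroup G} (h : Mn A T) : ∃ v, Nat.card T = 2 ^ v ∧ 2 ≤ v := by
  have : Fact (Nat.Prime 2) := ⟨Nat.prime_two⟩
  obtain ⟨v, hv⟩ := IsPGroup.iff_card.1 h.two
  refine ⟨v, hv, ?_⟩
  by_contra hlt
  have : v = 0 ∨ v = 1 := by omega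
  rcases this with rfl | rfl
  · exact h.ne_bot (card_eq_one.1 (by rw [hv, pow_zero]))
  · rw [pow_one] at hv
    obtain ⟨z, -, huniv⟩ := (Nat.card_eq_two_iff' (1 : T)).mp hv
    apply h.not_le
    intro x hx
    rw [mem_centralizer_iff]
    intro a ha
    by_cases hx1 : x = 1
    · rw [hx1, mul_one, one_mul]
    · have h1 : a * x * a⁻¹ ∈ T := conj_mem_of_le_normalizer h.norm ha hx
      have h2 := huniv ⟨x, hx⟩ (fun h0 => hx1 (congrArg Subtype.val h0))
      have h3 := huniv ⟨a * x * a⁻¹, h1⟩ (fun h0 => hx1 (by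
        have h4 := congrArg Subtype.val h0
        change a * x * a⁻¹ = 1 at h4
        rwa [mul_inv_eq_one, mul_eq_left] at h4))
      have h5 := congrArg Subtype.val (h3.trans h2.symm)
      change a * x * a⁻¹ = x at h5
      exact mul_inv_eq_iff_eq_mul.1 h5

section Rank

variable [Finite G] {p m : ℕ} [hp : Fact p.Prime]

theorem Hyp.le (H : Hyp p m G) {r k : ℕ} {D E : Subgroup G} (hD : Cfsg.IsElementaryAbelian p D)
    (hDc : Nat.card D = p ^ k) (hk : 1 ≤ k) (hE : Cfsg.IsElementaryAbelian 2 E)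
    (hEc : Nat.card E = 2 ^ (r + 1)) (hED : E ≤ centralizer (D : Set G)) : k + r ≤ m :=
  H.max _ (bound H.odd H.lcp r k D E hD hDc hk hE hEc hED)

theorem Hyp.coprime (H : Hyp p m G) {A : Subgroup G} (hA : Cfsg.IsElementaryAbelian p A) :
    (Nat.card A).Coprime 2 :=
  have : Fact (Nat.Prime 2) := ⟨Nat.prime_two⟩
  coprime_card_of_isPGroup (Ne.symm H.odd) (elab_pgroup hA)

theorem ne_bot_of_card {A : Subgroup G} {k : ℕ} (hc : Nat.card A = p ^ k) (hk : 1 ≤ k) : A ≠ ⊥ := by
  rintro rfl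
  rw [card_bot] at hc
  exact (Nat.one_lt_pow (by omega) hp.out.one_lt).ne hc

theorem card_hyperplane {A X : Subgroup G} (hXA : X ≤ A) (hX : X.relIndex A = p) {k : ℕ}
    (hA : Nat.card A = p ^ (k + 1)) : Nat.card X = p ^ k := by
  have h6 := relIndex_mul_card' hXA
  rw [hX, hA, pow_succ, mul_comm] at h6
  exact Nat.eq_of_mul_eq_mul_right hp.out.pos h6

/-- a new minimal 2-group centralising a given `T₁` -/
theorem Hyp.pairUp (H : Hyp p m G) {A : Subgroup G} (hA : Cfsg.IsElementaryAbelian p A)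
    {T₁ B : Subgroup G} (hT : IsPGroup 2 T₁) (hT1 : T₁ ≠ ⊥) (hAT : A ≤ normalizer (T₁ : Set G))
    (hB : B ≤ A) (hB1 : B ≠ ⊥) (hTB : T₁ ≤ centralizer (B : Set G)) :
    ∃ X : Subgroup G, X ≤ A ∧ X.relIndex A = p ∧ ¬ B ≤ X ∧ ∃ T₂ : Subgroup G, Mn A T₂ ∧
      T₂ ≤ centralizer (T₁ : Set G) ∧ T₂ ≤ centralizer (X : Set G) := by
  have h2 : Fact (Nat.Prime 2) := ⟨Nat.prime_two⟩
  have hA1 : A ≠ ⊥ := by
    rintro rfl
    exact hB1 (eq_bot_iff.2 hB)
  obtain ⟨U, hU⟩ := H.lc2.exists_core hT hT1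
  have hnot : ¬ U ⊓ centralizer (T₁ : Set G) ≤ centralizer (B : Set G) := fun hc =>
    hB1 (hU.faithful hT (H.coprime (elab_le hA hB)) (le_centralizer_iff.1 hTB) hc)
  have hU1 : IsPGroup 2 ↥(U ⊓ centralizer (T₁ : Set G)) := hU.pgroup.to_le inf_le_left
  have hAU : A ≤ normalizer ((U ⊓ centralizer (T₁ : Set G) : Subgroup G) : Set G) :=
    le_normalizer_inf (hAT.trans hU.norm) (le_normalizer_centralizer hAT)
  obtain ⟨X, hXA, hXi, hX⟩ := exists_noncomm_hyperplane hA hA1
    (not_dvd_card_of_isPGroup (s := p) H.odd hU1) hAU hnot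
  refine ⟨X, hXA, hXi, fun hBX => hX (inf_le_right.trans (centralizer_le hBX)), ?_⟩
  have hAX : A ≤ normalizer (X : Set G) := le_normalizer_of_conj_mem fun a ha b hb => by
    rw [elab_comm hA ha (hXA hb), mul_inv_cancel_right]; exact hb
  obtain ⟨T₂, hT2, hMn⟩ := exists_Mn (A := A) (hU1.to_le (inf_le_left (b := centralizer (X : Set G))))
    (le_normalizer_inf hAU (le_normalizer_centralizer hAX))
    (fun hc => hX ((comm_bot_iff.1 hc).trans (centralizer_le hB)))
  exact ⟨T₂, hMn, hT2.trans (inf_le_left.trans inf_le_right), hT2.trans inf_le_right⟩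

/-- two different hyperplanes meet in a subgroup of index at most `p ^ 2` -/
theorem card_inf_hyperplane {A B X : Subgroup G} (hBA : B ≤ A) (hBi : B.relIndex A = p)
    (hXi : X.relIndex A = p) {k : ℕ} (hA : Nat.card A = p ^ (k + 2)) (hAp : IsPGroup p A) :
    ∃ j, Nat.card (B ⊓ X : Subgroup G) = p ^ j ∧ k ≤ j := by
  have hB : Nat.card B = p ^ (k + 1) := card_hyperplane hBA hBi hA
  obtain ⟨j, hj⟩ := IsPGroup.iff_card.1 (hAp.to_le (inf_le_left.trans hBA) : IsPGroup p ↥(B ⊓ X))
  refine ⟨j, hj, ?_⟩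
  have h1 := relIndex_mul_card' (inf_le_left : B ⊓ X ≤ B)
  have h2 : (B ⊓ X).relIndex B ≤ p := by
    rw [inf_comm, inf_relIndex_right]
    rw [← hXi]
    exact relIndex_le_of_le_right hBA (by rw [hXi]; exact hp.out.ne_zero)
  rw [hB, hj] at h1
  by_contra hlt
  have h3 : p ^ j * p ≤ p ^ k := by
    rw [← pow_succ]; exact Nat.pow_le_pow_right hp.out.pos (by omega)
  have h4 : p ^ (k + 1) ≤ p ^ k := by
    calc p ^ (k + 1) = (B ⊓ X).relIndex B * p ^ j := h1.symm
      _ ≤ p * p ^ j := Nat.mul_le_mul_right _ h2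
      _ = p ^ j * p := mul_comm _ _
      _ ≤ p ^ k := h3
  have h5 : p ^ k < p ^ (k + 1) := Nat.pow_lt_pow_right hp.out.one_lt (Nat.lt_succ_self k)
  omega

/-- A normalises no elementary abelian 2-group that it does not centralise. -/
theorem Hyp.noV (H : Hyp p m G) {A V : Subgroup G} (hA : Cfsg.IsElementaryAbelian p A)
    (hAc : Nat.card A = p ^ m) (hV : Cfsg.IsElementaryAbelian 2 V)
    (hAV : A ≤ normalizer (V : Set G)) (hne : ⁅V, A⁆ ≠ ⊥) : False := by
  have h2 : Fact (Nat.Prime 2) := ⟨Nat.prime_two⟩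
  obtain ⟨W, hWV, hW⟩ := exists_Mn (elab_pgroup hV) hAV hne
  replace hV := elab_le hV hWV
  clear hWV hne hAV V
  obtain ⟨n, rfl⟩ : ∃ n, m = n + 2 := ⟨m - 2, by have := H.three; omega⟩
  have hn : 1 ≤ n := by have := H.three; omega
  have hco := H.coprime hA
  have hA1 : A ≠ ⊥ := ne_bot_of_card hAc (by omega)
  have hW0 := hW.inf_of_elab hco hV
  obtain ⟨v, hv, hv2⟩ := hW.card_eq
  -- the hyperplane centralising `W`
  obtain ⟨B, hBA, hBi, hB⟩ := exists_noncomm_hyperplane hA hA1
    (not_dvd_card_of_isPGroup (s := p) H.odd hW.two) hW.norm hW.not_le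
  have hBn : A ≤ normalizer (B : Set G) := le_normalizer_of_conj_mem fun a ha b hb => by
    rw [elab_comm hA ha (hBA hb), mul_inv_cancel_right]; exact hb
  have hWB : W ≤ centralizer (B : Set G) := by
    rcases hW.le_or (inf_le_left : W ⊓ centralizer (B : Set G) ≤ W)
      (le_normalizer_inf hW.norm (le_normalizer_centralizer hBn)) with h1 | h1
    · rw [← h1]; exact inf_le_right
    · exact absurd h1 hB
  have hBc : Nat.card B = p ^ (n + 1) := card_hyperplane hBA hBi hAc
  obtain ⟨X, hXA, hXi, hBX, T, hT, hTW, hTX⟩ := H.pairUp hA hW.two hW.ne_bot hW.norm hBA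
    (ne_bot_of_card hBc (by omega)) hWB
  have hXc : Nat.card X = p ^ (n + 1) := card_hyperplane hXA hXi hAc
  by_cases hc : T ⊓ centralizer (A : Set G) = ⊥
  · have hTe := hT.elab_of_inf hc
    obtain ⟨w, hw, hw2⟩ := hT.card_eq
    have hWT : W ⊓ T = ⊥ := by
      rcases hW.le_or (inf_le_left : W ⊓ T ≤ W) (le_normalizer_inf hW.norm hT.norm) with h1 | h1
      · exfalso
        have h3 : W ≤ centralizer (X : Set G) := by rw [← h1]; exact inf_le_right.trans hTX
        -- `B` and `X` both centralise `W`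
        have hBXA : A ≤ B ⊔ X := by
          have h4 : B ⊔ X ≤ A := sup_le hBA hXA
          have h5 : B < B ⊔ X := by
            refine lt_of_le_of_ne le_sup_left fun h6 => hBX ?_
            have h7 : X ≤ B := by rw [h6]; exact le_sup_right
            rw [eq_of_le_of_card_ge h7 (by rw [hBc, hXc])]
          have h6 := relIndex_mul_relIndex B (B ⊔ X) A le_sup_left h4
          rw [hBi] at h6
          have h7 : (B ⊔ X).relIndex A = 1 := by
            rcases (Nat.dvd_prime hp.out).1 (Dvd.intro_left _ h6) with h8 | h8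
            · exact h8
            · exfalso
              rw [h8] at h6
              have h9 : B.relIndex (B ⊔ X) = 1 :=
                Nat.eq_of_mul_eq_mul_right hp.out.pos (by rw [h6, one_mul])
              exact h5.not_ge (relIndex_eq_one.1 h9)
          exact relIndex_eq_one.1 h7
        apply hW.not_le
        rw [le_centralizer_iff]
        exact hBXA.trans (sup_le (le_centralizer_iff.1 hWB) (le_centralizer_iff.1 h3))
      · rw [eq_bot_iff, ← hW0]
        exact le_inf inf_le_left h1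
    have hcomm : ∀ a ∈ W, ∀ b ∈ T, a * b = b * a := fun a ha b hb => mem_centralizer_iff.1 (hTW hb) a ha
    obtain ⟨j, hj, hjn⟩ := card_inf_hyperplane hBA hBi hXi hAc (elab_pgroup hA)
    have h1 := H.le (r := v + w - 1) (k := j) (D := B ⊓ X) (E := W ⊔ T) (elab_le hA (inf_le_left.trans hBA))
      hj (by omega) (elab_sup hV hTe hcomm) (by
        rw [card_sup_comm hcomm hWT, hv, hw, ← pow_add]; congr 1; omega)
      (sup_le (hWB.trans (centralizer_le inf_le_left)) (hTX.trans (centralizer_le inf_le_right)))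
    omega
  · -- an involution of `T` centralised by `A`
    have h3 : IsPGroup 2 ↥(T ⊓ centralizer (A : Set G)) := hT.two.to_le inf_le_left
    obtain ⟨s, hs⟩ := IsPGroup.iff_card.1 h3
    have hs0 : s ≠ 0 := by
      rintro rfl
      exact hc (card_eq_one.1 (by rw [hs, pow_zero]))
    obtain ⟨f, hf⟩ := exists_prime_orderOf_dvd_card' (G := ↥(T ⊓ centralizer (A : Set G))) 2
      (by rw [hs]; exact dvd_pow_self 2 hs0)
    have hfo : orderOf (f : G) = 2 := by rw [← hf, Subgroup.orderOf_coe]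
    have hfW : (f : G) ∉ W := by
      intro hfW
      have h4 : (f : G) ∈ W ⊓ centralizer (A : Set G) := ⟨hfW, f.2.2⟩
      rw [hW0, mem_bot] at h4
      rw [h4, orderOf_one] at hfo
      omega
    obtain ⟨he, hec⟩ := elab_adjoin hV hfo hfW (fun a ha => mem_centralizer_iff.1 (hTW f.2.1) a ha)
    have h1 := H.le (r := v) (k := n + 1) (D := B) (elab_le hA hBA) hBc (by omega) he
      (by rw [hec, hv, pow_succ]) (sup_le hWB (by
        rw [zpowers_le]; exact centralizer_le hBA f.2.2))
    omega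

/-- all minimal 2-groups are extraspecial, with centre centralised by `A` -/
theorem Hyp.extra (H : Hyp p m G) {A T : Subgroup G} (hA : Cfsg.IsElementaryAbelian p A)
    (hAc : Nat.card A = p ^ m) (hT : Mn A T) : Cfsg.IsExtraspecial 2 T ∧
      (center T).map T.subtype ≤ centralizer (A : Set G) := by
  have h2 : Fact (Nat.Prime 2) := ⟨Nat.prime_two⟩
  have hco := H.coprime hA
  rcases MinimalAction.elementary_or_special hT.two hT.norm le_rfl le_normalizer hco hT.ne hT.min
    with he | hs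
  · exact (H.noV hA hAc he hT.norm hT.ne).elim
  · have hZ : (center T).map T.subtype ≤ centralizer (A : Set G) := by
      rw [← hs.2.1]
      exact hT.frat_le_centralizer
    refine ⟨⟨hs, ?_⟩, hZ⟩
    have hZe : Cfsg.IsElementaryAbelian 2 ((center T).map T.subtype) := by
      refine elab_of ?_ ?_
      · rintro _ ⟨a, ha, rfl⟩ _ ⟨b, -, rfl⟩
        exact congrArg Subtype.val (mem_center_iff.1 ha b).symm
      · rintro _ ⟨a, ha, rfl⟩
        exact congrArg Subtype.val (S0094.result hs a ha)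
    have hZc : Nat.card ((center T).map T.subtype) = Nat.card (center T) :=
      (Nat.card_congr ((center T).equivMapOfInjective _ T.subtype_injective).toEquiv).symm
    obtain ⟨n, hn⟩ := IsPGroup.iff_card.1 (elab_pgroup hZe)
    have hn0 : n ≠ 0 := by
      rintro rfl
      rw [hZc, pow_zero] at hn
      have : Nontrivial T := (Subgroup.nontrivial_iff_ne_bot _).2 hT.ne_bot
      have h3 : Nontrivial (center T) := hT.two.center_nontrivial
      exact (Subgroup.nontrivial_iff_ne_bot _).1 h3 (card_eq_one.1 hn)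
    have h4 := H.le (r := n - 1) (k := m) hA hAc (by have := H.three; omega) hZe
      (by rw [hn]; congr 1; omega) hZ
    rw [← hZc, hn, show n = 1 by omega, pow_one]

end Rank

end Cfsg.Agent.H810.KM
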