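import Mathlib
import Cfsg.Agent.H831.Types

set_option autoImplicit false
set_option linter.style.haveILetI false

/-!
# Type M(24): the lines are thin

`E_e / Z` is injective on the non-central members of `E_e`; if the commuting lines of `D` are thick,
the members of `D_d / Z` have twins, hence so do the members of the third local set, which is of type
`U(6)`: a contradiction.
-/

namespace Cfsg.Agent.H810.Thin

open Cfsg Cfsg.Agent.SporadicStructure.FischerSpace Cfsg.Agent.ThreeTransPolar.Basic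
open Cfsg.Agent.ThreeTransPolar.Lines
open Cfsg.Agent.Fischer160.Inherit
open Cfsg.Agent.TSp.Orders (PerpSub perpSub_U)

section Local

variable {K : Type*} [Group K] {E : Set K}

/-- 3-transpositions, the identity allowed -/
structure TT (E : Set K) : Prop where
  sq : ∀ a ∈ E, a * a = 1
  br : ∀ a ∈ E, ∀ b ∈ E, ¬ Commute a b → a * b * a = b * a * b
  inv : ∀ g : K, ∀ a ∈ E, g * a * g⁻¹ ∈ E

/-- every member of `E` not commuting with all of `E` has a twin -/
def Tw (E : Set K) : Prop := ∀ x ∈ E, (∃ w ∈ E, ¬ Commute w x) →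
  ∃ x' ∈ E, x' ≠ x ∧ ∀ w ∈ E, (Commute w x ↔ Commute w x')

theorem TT.inv_mem (h : TT E) {e : K} {g a : K} (hg : Commute g e) (ha : a ∈ Dx E e) :
    g * a * g⁻¹ ∈ Dx E e := by
  obtain ⟨h1, h2, h3⟩ := ha
  have e1 : g * e * g⁻¹ = e := by rw [hg.eq]; group
  refine ⟨h.inv g a h1, ?_, ?_⟩
  · intro h4
    apply h2
    rw [← e1] at h4
    exact mul_left_cancel (mul_right_cancel h4)
  · have h5 : Commute (g * e * g⁻¹) (g * a * g⁻¹) := by
      show (g * e * g⁻¹) * (g * a * g⁻¹) = (g * a * g⁻¹) * (g * e * g⁻¹)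
      have : e * a = a * e := h3
      calc (g * e * g⁻¹) * (g * a * g⁻¹) = g * (e * a) * g⁻¹ := by group
        _ = g * (a * e) * g⁻¹ := by rw [this]
        _ = _ := by group
    rwa [e1] at h5

variable (h : TT E) {e : K}
include h

/-- members with the same image are equal, if not central -/
theorem mk_inj' {a b w : HH E e} (ha : (a : K) ∈ Dx E e) (hb : (b : K) ∈ Dx E e)
    (hw : (w : K) ∈ Dx E e) (hwa : ¬ Commute (w : K) (a : K))
    (hab : (a : KK E e) = (b : KK E e)) : a = b := by
  rw [QuotientGroup.eq, Subgroup.mem_center_iff] at hab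
  set z : HH E e := a⁻¹ * b with hz
  have hb' : b = a * z := by rw [hz]; group
  have hwz := hab w
  have haz := hab a
  have h1 : w * a * w = a * w * a := Subtype.ext (by simpa using h.br _ hw.1 _ ha.1 hwa)
  have hwb : ¬ Commute (w : K) (b : K) := by
    intro hc
    apply hwa
    have hc' : Commute w b := Subtype.ext (by simpa using hc.eq)
    have hzc : Commute w z := hwz
    rw [hb'] at hc'
    have h2 : Commute w (a * z * z⁻¹) := hc'.mul_right hzc.inv_right
    rw [mul_inv_cancel_right] at h2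
    exact congrArg Subtype.val h2
  have h2 : w * b * w = b * w * b := Subtype.ext (by simpa using h.br _ hw.1 _ hb.1 hwb)
  rw [hb'] at h2
  have h3 : w * (a * z) * w = z * (w * a * w) := by
    have hz1 : w * a * z = z * (w * a) := by
      rw [mul_assoc, haz, ← mul_assoc, hwz, mul_assoc]
    calc w * (a * z) * w = (w * a * z) * w := by simp only [mul_assoc]
      _ = z * (w * a * w) := by rw [hz1]; simp only [mul_assoc]
  have h4 : a * z * w * (a * z) = z * (z * (a * w * a)) := by
    have hzw : z * w = w * z := hwz.symm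
    have hza : z * a = a * z := haz.symm
    calc a * z * w * (a * z) = a * (z * w) * (a * z) := by simp only [mul_assoc]
      _ = a * w * (z * a) * z := by rw [hzw]; simp only [mul_assoc]
      _ = (a * w * a) * z * z := by rw [hza]; simp only [mul_assoc]
      _ = z * (z * (a * w * a)) := by
        have := hab (a * w * a)
        rw [this, mul_assoc, hab (a * w * a), ← mul_assoc, mul_assoc]
  rw [h3, h4, h1] at h2
  have h5 := mul_left_cancel h2
  have h6 : z = 1 := by
    have : 1 * (a * w * a) = z * (a * w * a) := by rw [one_mul]; exact h5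
    exact (mul_right_cancel this).symm
  rw [hb', h6, mul_one]

/-- the images commute exactly when the members do -/
theorem mk_comm' {a b : HH E e} (ha : (a : K) ∈ Dx E e) (hb : (b : K) ∈ Dx E e) :
    Commute (a : KK E e) (b : KK E e) ↔ Commute (a : K) (b : K) := by
  constructor
  · intro hc
    by_contra hnc
    have h1 : a * b * a = b * a * b := Subtype.ext (by simpa using h.br _ ha.1 _ hb.1 hnc)
    have h2 : (a : KK E e) * b * a = b * a * b := by
      rw [← QuotientGroup.mk_mul, ← QuotientGroup.mk_mul, ← QuotientGroup.mk_mul,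
        ← QuotientGroup.mk_mul, h1]
    rw [hc.eq, mul_assoc, mul_assoc] at h2
    have h3 := mul_left_cancel h2
    have sa : (a : KK E e) * a = 1 := by
      rw [← QuotientGroup.mk_mul, show a * a = 1 from Subtype.ext (h.sq _ ha.1)]; rfl
    have sb : (b : KK E e) * b = 1 := by
      rw [← QuotientGroup.mk_mul, show b * b = 1 from Subtype.ext (h.sq _ hb.1)]; rfl
    rw [sa] at h3
    have h4 : (a : KK E e) = b := by
      rw [eq_inv_of_mul_eq_one_left h3.symm]
      exact inv_eq_of_mul_eq_one_left sb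
    have h5 := mk_inj' h ha hb hb (fun h6 => hnc h6.symm) h4
    rw [h5] at hnc
    exact hnc (Commute.refl _)
  · intro hc
    have h1 : a * b = b * a := Subtype.ext hc.eq
    show (a : KK E e) * b = b * a
    rw [← QuotientGroup.mk_mul, h1]; rfl

theorem tt_Eb : TT (Eb E e) where
  sq := by
    rintro _ ⟨a, ha, rfl⟩
    rw [← QuotientGroup.mk_mul, show a * a = 1 from Subtype.ext (h.sq _ ha.1)]; rfl
  br := by
    rintro _ ⟨a, ha, rfl⟩ _ ⟨b, hb, rfl⟩ hab
    have h1 : ¬ Commute (a : K) (b : K) := fun hc => hab ((mk_comm' h ha hb).2 hc)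
    have h2 : a * b * a = b * a * b := Subtype.ext (by simpa using h.br _ ha.1 _ hb.1 h1)
    rw [← QuotientGroup.mk_mul, ← QuotientGroup.mk_mul, ← QuotientGroup.mk_mul,
      ← QuotientGroup.mk_mul, h2]
  inv := by
    rintro g _ ⟨a, ha, rfl⟩
    obtain ⟨k, rfl⟩ := QuotientGroup.mk_surjective g
    refine ⟨k * a * k⁻¹, ?_, rfl⟩
    have := h.inv_mem (commute_of_mem_HH k.2) ha
    rw [mem_E]
    simpa using this

theorem tw_Eb (he : e ∈ E) (ht : Tw E) : Tw (Eb E e) := by
  rintro _ ⟨a, ha, rfl⟩ ⟨_, ⟨w, hw, rfl⟩, hwa⟩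
  have hwa' : ¬ Commute (w : K) (a : K) := fun hc => hwa ((mk_comm' h hw ha).2 hc)
  obtain ⟨a', ha', hne, hcom⟩ := ht a ha.1 ⟨w, hw.1, hwa'⟩
  have hwa1 : ¬ Commute (w : K) a' := fun hc => hwa' ((hcom w hw.1).2 hc)
  have hae : Commute e a' := (hcom e he).1 ha.2.2
  have hne' : a' ≠ e := by
    rintro rfl
    exact hwa1 hw.2.2.symm
  have hD : a' ∈ Dx E e := ⟨ha', hne', hae⟩
  refine ⟨((⟨a', mem_HH_of hD⟩ : HH E e) : KK E e), ⟨_, hD, rfl⟩, ?_, ?_⟩
  · intro h1
    have h2 := mk_inj' h ha (b := ⟨a', mem_HH_of hD⟩) hD hw hwa' h1.symm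
    exact hne (congrArg Subtype.val h2).symm
  · rintro _ ⟨v, hv, rfl⟩
    rw [mk_comm' h hv ha, mk_comm' h hv (b := ⟨a', mem_HH_of hD⟩) hD]
    exact hcom v hv.1

omit h in
theorem closure_Eb : Subgroup.closure (Eb E e) = ⊤ := by
  have h1 : Subgroup.closure (Eb E e) =
      (Subgroup.closure (Cfsg.Agent.Fischer160.Inherit.E E e)).map
        (QuotientGroup.mk' (Subgroup.center (HH E e))) := by
    rw [MonoidHom.map_closure]; rfl
  rw [h1, closure_E, ← MonoidHom.range_eq_map]
  exact MonoidHom.range_eq_top.2 (QuotientGroup.mk'_surjective _)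

end Local

/-- no twins in a simple group of order `|PSU(6,2)|` -/
theorem no_tw {K : Type*} [Group K] [Finite K] [hs : IsSimpleGroup K]
    (hna : ∃ x y : K, x * y ≠ y * x) (hcard : Nat.card K = 9196830720) {E : Set K} (h : TT E)
    (hgen : Subgroup.closure E = ⊤) (ht : Tw E) : False := by
  have hcen : ∀ y : K, (∀ g : K, Commute g y) → y = 1 := by
    intro y hy
    rcases hs.eq_bot_or_eq_top_of_normal (Subgroup.center K) inferInstance with h1 | h1
    · have h2 : y ∈ Subgroup.center K := Subgroup.mem_center_iff.2 fun g => (hy g).eq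
      rwa [h1, Subgroup.mem_bot] at h2
    · exfalso
      obtain ⟨a, b, hab⟩ := hna
      have h2 : b ∈ Subgroup.center K := by rw [h1]; trivial
      exact hab (Subgroup.mem_center_iff.1 h2 a)
  have hcomE : ∀ y : K, (∀ g ∈ E, Commute g y) → y = 1 := by
    intro y hy
    apply hcen
    intro g
    have hg : g ∈ Subgroup.closure E := by rw [hgen]; trivial
    have hle : Subgroup.closure E ≤ Subgroup.centralizer {y} := by
      rw [Subgroup.closure_le]
      intro d hd
      exact Subgroup.mem_centralizer_singleton_iff.2 (hy d hd).eq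
    exact Subgroup.mem_centralizer_singleton_iff.1 (hle hg)
  obtain ⟨x, hx, hx1⟩ : ∃ x ∈ E, x ≠ 1 := by
    by_contra hcon
    push Not at hcon
    have h1 : Subgroup.closure E ≤ ⊥ := by
      rw [Subgroup.closure_le]
      intro y hy
      exact Subgroup.mem_bot.2 (hcon y hy)
    rw [hgen] at h1
    have := hs.toNontrivial
    exact top_ne_bot (le_bot_iff.1 h1)
  have hord : ∀ a ∈ E, a ≠ 1 → orderOf a = 2 := by
    intro a ha ha1
    rw [orderOf_eq_prime_iff]
    exact ⟨by rw [pow_two]; exact h.sq a ha, ha1⟩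
  have hconjE : ∀ y, IsConj x y → y ∈ E := by
    intro y hy
    obtain ⟨g, rfl⟩ := isConj_iff.1 hy
    exact h.inv g x hx
  have hgenC : Subgroup.closure (conjugatesOf x) = ⊤ := by
    have hN : (Subgroup.closure (conjugatesOf x)).Normal := by
      constructor
      intro n hn g
      induction hn using Subgroup.closure_induction with
      | mem x' hx' =>
        apply Subgroup.subset_closure
        exact IsConj.trans (show IsConj x x' from hx') (isConj_iff.2 ⟨g, rfl⟩)
      | one => simp
      | mul x y _ _ hx hy =>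
        have : g * (x * y) * g⁻¹ = (g * x * g⁻¹) * (g * y * g⁻¹) := by group
        rw [this]; exact mul_mem hx hy
      | inv x _ hx =>
        have : g * x⁻¹ * g⁻¹ = (g * x * g⁻¹)⁻¹ := by group
        rw [this]; exact inv_mem hx
    rcases hs.eq_bot_or_eq_top_of_normal _ hN with h1 | h1
    · exfalso
      apply hx1
      have h2 : x ∈ Subgroup.closure (conjugatesOf x) :=
        Subgroup.subset_closure mem_conjugatesOf_self
      rwa [h1, Subgroup.mem_bot] at h2
    · exact h1
  have hE' : {y | y ∈ E ∧ y ≠ 1} = conjugatesOf x := by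
    ext y
    constructor
    · rintro ⟨hy, hy1⟩
      by_contra hyC
      apply hy1
      apply hcen
      intro g
      have hg : g ∈ Subgroup.closure (conjugatesOf x) := by rw [hgenC]; trivial
      have hle : Subgroup.closure (conjugatesOf x) ≤ Subgroup.centralizer {y} := by
        rw [Subgroup.closure_le]
        intro d hd
        refine Subgroup.mem_centralizer_singleton_iff.2 ?_
        by_contra hdy
        apply hyC
        have hdE := hconjE d hd
        have h1 := h.br d hdE y hy hdy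
        have h2 : (d * y) * d * (d * y)⁻¹ = y := by
          rw [h1]
          group
        exact IsConj.trans (show IsConj x d from hd) (isConj_iff.2 ⟨_, h2⟩)
      exact Subgroup.mem_centralizer_singleton_iff.1 (hle hg)
    · intro hy
      refine ⟨hconjE y hy, ?_⟩
      rintro rfl
      obtain ⟨g, hg⟩ := isConj_iff.1 (show IsConj x 1 from hy)
      apply hx1
      have : g * x = g := by
        have := mul_inv_eq_one.1 hg
        exact this
      simpa using this
  have hcls : IsThreeTranspositionClass {y | y ∈ E ∧ y ≠ 1} := by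
    refine ⟨⟨fun y hy => hord y hy.1 hy.2, ?_⟩, ⟨x, ⟨hx, hx1⟩, hE'⟩, by rw [hE']; exact hgenC⟩
    rintro a ⟨ha, -⟩ b ⟨hb, -⟩
    by_cases hc : Commute a b
    · left
      rw [pow_two]
      calc a * b * (a * b) = a * (b * a) * b := by simp only [mul_assoc]
        _ = a * (a * b) * b := by rw [hc.eq]
        _ = (a * a) * (b * b) := by simp only [mul_assoc]
        _ = 1 := by rw [h.sq a ha, h.sq b hb, mul_one]
    · right
      have h1 := h.br a ha b hb hc
      calc (a * b) ^ 3 = (a * b * a) * (b * a * b) := by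
            rw [pow_succ, pow_two]; simp only [mul_assoc]
        _ = (a * b * a) * (a * b * a) := by rw [← h1]
        _ = a * b * (a * a) * b * a := by simp only [mul_assoc]
        _ = 1 := by rw [h.sq a ha, mul_one, mul_assoc a b b, h.sq b hb, mul_one, h.sq a ha]
  have hP : PerpSub {y | y ∈ E ∧ y ≠ 1} :=
    perpSub_U (Cfsg.Agent.H831.USix.isU_six hna hcard hcls)
  obtain ⟨w, hw, hwx⟩ : ∃ w ∈ E, ¬ Commute w x := by
    by_contra hcon
    push Not at hcon
    exact hx1 (hcomE x hcon)
  obtain ⟨x', hx', hne, hcom⟩ := ht x hx ⟨w, hw, hwx⟩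
  have hx'1 : x' ≠ 1 := by
    rintro rfl
    exact hwx ((hcom w hw).2 (Commute.one_right w))
  exact hne (hP x ⟨hx, hx1⟩ x' ⟨hx', hx'1⟩ fun d hd hdx => (hcom d hd.1).1 hdx)

section Main

universe u

variable {G : Type u} [Group G] {D : Set G}

theorem tt_of_fdata (h : FData D) : TT D where
  sq := h.sq
  br := h.braid
  inv := h.conj

theorem tw_base [Finite G] (R : Rk D) (T : Cfsg.Agent.ThreeTransPolar.Lines.Thick D) {d : G}
    (hd : d ∈ D) : Tw (Eb D d) := by
  have h := tt_of_fdata R.fd
  rintro _ ⟨a, ha, rfl⟩ ⟨_, ⟨w, hw, rfl⟩, hwa⟩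
  have hwa' : ¬ Commute (w : G) (a : G) := fun hc => hwa ((mk_comm' h hw ha).2 hc)
  obtain ⟨z, hz, hzd, hza⟩ := T.third d hd a ha.1 ha.2.1.symm ha.2.2
  have hdz : Commute d z := Line_commute hd ha.1 ha.2.2 (mem_Line_left hd) hz
  have hD : z ∈ Dx D d := ⟨Line_mem hz, hzd, hdz⟩
  have hL : Line D d z = Line D d a :=
    Line_eq R hd ha.1 ha.2.1.symm ha.2.2 (mem_Line_left hd) hz hzd.symm
  have haL : (a : G) ∈ Line D d z := by rw [hL]; exact mem_Line_right ha.1
  have hcom : ∀ v ∈ Dx D d, (Commute v (a : G) ↔ Commute v z) := fun v hv =>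
    ⟨fun h1 => hz.2 v hv.1 hv.2.2.symm h1, fun h1 => haL.2 v hv.1 hv.2.2.symm h1⟩
  refine ⟨((⟨z, mem_HH_of hD⟩ : HH D d) : KK D d), ⟨_, hD, rfl⟩, ?_, ?_⟩
  · intro h1
    have h2 := mk_inj' h ha (b := ⟨z, mem_HH_of hD⟩) hD hw hwa' h1.symm
    exact hza (congrArg Subtype.val h2).symm
  · rintro _ ⟨v, hv, rfl⟩
    rw [mk_comm' h hv ha, mk_comm' h hv (b := ⟨z, mem_HH_of hD⟩) hD]
    exact hcom v hv

/-- **In type M(24) the commuting lines have two points.** -/
theorem thinLines [Finite G] (F : FGroup D) (h : IsOfTypeM24 G D) : ThinLines D := by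
  have R := rk_of_FGroup F
  by_contra hthin
  have T : Thick D := by
    rw [ThinLines] at hthin
    push Not at hthin
    obtain ⟨x', hx', y', hy', hne, hc, z', hz', h3, h4⟩ := hthin
    exact Cfsg.Agent.ThreeTransPolar.Main.thick_of_exists R hx' hy' hne hc ⟨z', hz', h3, h4⟩
  obtain ⟨d, hd, h1⟩ := Cfsg.Agent.H831.Types.m24_sub h
  have t1 := tt_Eb (e := d) (tt_of_fdata F.fd)
  have w1 := tw_base R T hd
  obtain ⟨d1, hd1, h2⟩ := Cfsg.Agent.H831.Types.m23_sub h1
  have t2 := tt_Eb (e := d1) t1
  have w2 := tw_Eb t1 hd1 w1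
  obtain ⟨d2, hd2, F4, i1, i2, hF, ⟨f⟩⟩ := Cfsg.Agent.H831.Types.m22_psu h2
  have t3 := tt_Eb (e := d2) t2
  have w3 := tw_Eb t2 hd2 w2
  obtain ⟨k1, k2, k3, k4, k5⟩ := Cfsg.Agent.H831.Types.psu_facts hF f
  haveI := k1
  exact no_tw k2 k3 t3 closure_Eb w3

/-- **Type M(24) is type `T8`.** -/
theorem m24_isT8 [Finite G] (F : FGroup D) (h : IsOfTypeM24 G D) :
    Cfsg.Agent.Fischer480.Defs.IsT8 D := by
  obtain ⟨d, hd, h1⟩ := Cfsg.Agent.H831.Types.m24_sub h
  have R := rk_of_FGroup F
  have ht := thinLines F h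
  have hI := inherit F ht hd
    (Cfsg.Agent.H831.Types.odd_central F (Cfsg.Agent.H831.Types.m24_card h) hd)
  have hiso := Cfsg.Agent.TSp.Orders.cIso_Eb R.fd ht hd
  have h7 : Cfsg.Agent.Fischer480.Defs.IsT7 (Eb D d) := Cfsg.Agent.H831.Types.m23_isT7 hI h1
  exact Cfsg.Agent.S0480U.CaseDF.caseF7 (Cfsg.Agent.H831.Types.defs_of_inh F)
    (fun x hx => Cfsg.Agent.Fischer480.Transport.isT7 (Cfsg.Agent.Fischer480.Transport.CIso.trans
      (Cfsg.Agent.H831.Types.loc_all F hd hx) hiso) h7)

/-- **M(24)**, from the hypotheses of the statements -/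
theorem isT8 [Finite G] (hD : IsThreeTranspositionGroup D) (hprim : IsPrimitiveUnderConj D)
    (h : IsOfTypeM24 G D) : Cfsg.Agent.Fischer480.Defs.IsT8 D :=
  m24_isT8 (Cfsg.Agent.H831.Types.inh_of_defs
    (Cfsg.Agent.H831.Types.fgroup_m24 hD hprim h)) h

end Main

end Cfsg.Agent.H810.Thin
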